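import Cfsg.Agent.Lib.DW.Grp

/-!
Systems of width four all of whose root groups consist of Eichler transformations.
-/

set_option autoImplicit false
set_option linter.unusedSectionVars false
set_option linter.unusedSimpArgs false
set_option maxHeartbeats 400000

namespace H9.X9

open Module H95 H4.LX QuadraticMap Subgroup H9.WC H9.WN H75.DW Cfsg

universe u

variable {K : Type*} [Group K] [Finite K] {V : Type*} [AddCommGroup V] [Module (ZMod 2) V]
  {σ : K →* Module.End (ZMod 2) V} {q : QuadraticForm (ZMod 2) V} {X : Set V}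
  {E : V → Submodule (ZMod 2) V} {R : V → Subgroup K}

namespace Tw

variable {v u w w' x e : V} {r r' : K}

theorem ei0 (v : V) : Ei σ q v 0 1 := ⟨by simp, fun x => by simp⟩

variable (σ q R) in
/-- the vectors of the Eichler transformations in a root group -/
def Y (v : V) : Submodule (ZMod 2) V where
  carrier := {w | ∃ r ∈ R v, Ei σ q v w r}
  add_mem' := fun ⟨r, hr, h⟩ ⟨r', hr', h'⟩ => ⟨r * r', mul_mem hr hr', h.mul h'⟩
  zero_mem' := ⟨1, one_mem _, ei0 v⟩
  smul_mem' := fun c x hx => by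
    rcases ln_sm c x with e | e <;> rw [e]
    exacts [⟨1, one_mem _, ei0 v⟩, hx]

theorem eqns_tw : True := by
  have := @Y.eq_1.{0, 0}
  trivial

theorem Yp (h : w ∈ Y σ q R v) : polar q v w = 0 := h.choose_spec.2.1

theorem t1 (h : Ei σ q v w r) (h' : Ei σ q u w r') (b : polar q v u = 1) (q1 : q w = 1) (x : V) :
    σ (r * r' * r) x = x + polar q w x • w + (polar q v x + polar q u x) • (v + u) := by
  simp only [app_mul, h.2, h'.2, polar_add_right, bsr, b, bc q u v, q1, polar_same, h.1, h'.1,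
    bc q w v, bc q w u]
  match_scalars <;> grind

theorem t4 (h : Ei σ q v w r) (h' : Ei σ q u w' r') (b : polar q v u = 1) (h2 : polar q v w' = 0)
    (h3 : polar q u w = 0) (h4 : polar q w w' = 0) (q1 : q w = 0) (q2 : q w' = 0) (x : V) :
    σ (r * r' * (r * r')) x = x + polar q w x • w' + polar q w' x • w := by
  simp only [app_mul, h.2, h'.2, polar_add_right, bsr, b, bc q u v, q1, q2, polar_same, h.1, h'.1,
    bc q w v, bc q w u, bc q w' v, bc q w' u, bc q w' w, h2, h3, h4]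
  match_scalars <;> grind

theorem t2 (h : Ei σ q v w r) (h' : Ei σ q u w' r') (b : polar q v u = 1) (h2 : polar q v w' = 0)
    (h3 : polar q u w = 0) (h4 : polar q w w' = 0) (q1 : q w = 1) (q2 : q w' = 0) (x : V) :
    σ (r * r' * (r * r')) x =
      x + polar q w' x • (v + w) + (polar q v x + polar q w x + polar q w' x) • w' := by
  simp only [app_mul, h.2, h'.2, polar_add_right, bsr, b, bc q u v, q1, q2, polar_same, h.1, h'.1,
    bc q w v, bc q w u, bc q w' v, bc q w' u, bc q w' w, h2, h3, h4]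
  match_scalars <;> grind

theorem t3 (h : Ei σ q v w r) (h' : Ei σ q u w' r') (b : polar q v u = 1) (h2 : polar q v w' = 0)
    (h3 : polar q u w = 0) (h4 : polar q w w' = 0) (q1 : q w = 1) (q2 : q w' = 1) (x : V) :
    σ (r * r' * (r * r' * (r * r'))) x = x + polar q w x • w + polar q w' x • w' := by
  have k : ∀ x, σ (r * r') x = x + polar q u x • w' + (polar q w' x + polar q u x) • u +
      (polar q v x + polar q w' x + polar q u x) • w +
      (polar q w x + polar q v x + polar q w' x + polar q u x) • v := fun x => by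
    simp only [app_mul, h.2, h'.2, polar_add_right, bsr, b, bc q u v, q1, q2, polar_same, h.1, h'.1,
      bc q w v, bc q w u, bc q w' v, bc q w' u, bc q w' w, h2, h3, h4]
    match_scalars <;> grind
  rw [app_mul, app_mul _ (r * r')]
  simp only [k, polar_add_right, bsr, b, bc q u v, polar_same, h.1, h'.1,
    bc q w v, bc q w u, bc q w' v, bc q w' u, bc q w' w, h2, h3, h4]
  match_scalars <;> grind

theorem t5 (h : Ei σ q u w r) (h' : Ei σ q (u + e) w r') (h2 : polar q u e = 0) (q1 : q w = 0) (x : V) :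
    σ (r * r') x = x + polar q e x • w + polar q w x • e := by
  have a : polar q w e = 0 := by
    have := h'.1
    rwa [polar_add_left, h.1, zero_add, bc] at this
  simp only [app_mul, h.2, h'.2, polar_add_right, polar_add_left, bsr, q1, polar_same, h.1,
    bc q w u, h2, a]
  match_scalars <;> grind

/-- the standing hypotheses -/
structure T (σ : K →* Module.End (ZMod 2) V) (q : QuadraticForm (ZMod 2) V) (X : Set V)
    (E : V → Submodule (ZMod 2) V) (R : V → Subgroup K) : Prop extends Sy σ q 4 X E R where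
  ei : ∀ v ∈ X, ∀ r ∈ R v, ∃ u, Ei σ q v u r
  irr : ∀ W, Iv σ W → W = ⊥ ∨ W = ⊤

namespace T

variable (S : T σ q X E R)
include S

theorem orbit (hv : v ∈ X) (hx : x ≠ 0) : ∃ k, polar q (σ k v) x = 1 := by
  by_contra c
  have c' : ∀ k, polar q (σ k v) x = 0 := fun k => z2_ne1.1 fun e => c ⟨k, e⟩
  rcases S.irr (⨅ k, p1 q (σ k v)) (fun j y hy => (Submodule.mem_iInf _).2 fun k => mem_p1.2 (by
    rw [bc, S.polar' (mul_inv_cancel j), bc, ← app_mul]
    exact mem_p1.1 ((Submodule.mem_iInf _).1 hy _))) with e | e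
  · have : x ∈ ⨅ k, p1 q (σ k v) := (Submodule.mem_iInf _).2 fun k => mem_p1.2 (c' k)
    rw [e] at this
    exact hx this
  · refine S.ne0 v hv (S.zero_of fun y => ?_)
    have : y ∈ ⨅ k, p1 q (σ k v) := by rw [e]; trivial
    have := mem_p1.1 ((Submodule.mem_iInf _).1 this 1)
    rwa [app_one] at this

theorem Yh (hv : v ∈ X) (k : K) (h : w ∈ Y σ q R v) : σ k w ∈ Y σ q R (σ k v) :=
  let ⟨r, hr, h⟩ := h
  ⟨_, S.Rh k v hv r hr, h.cj S.toFm k⟩

theorem vY (hv : v ∈ X) : v ∈ Y σ q R v :=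
  ⟨1, one_mem _, by simpa using (ei0 (σ := σ) v).addv (S.sing v hv) 1⟩

theorem vE' (hv : v ∈ X) (he : e ∈ E v) : polar q v e = 0 := S.Eb hv (S.vE v hv) he

theorem Em (hv : v ∈ X) (k : K) : x ∈ E (σ k v) ↔ σ k⁻¹ x ∈ E v :=
  ⟨fun h => by simpa only [app_inv] using S.Eh k⁻¹ _ (S.orb k v hv) x h,
    fun h => by simpa only [app_inv'] using S.Eh k v hv _ h⟩

theorem Ec (hv : v ∈ X) (hu : u ∈ X) (h : E v = E u) (k : K) : E (σ k v) = E (σ k u) :=
  Submodule.ext fun x => by rw [S.Em hv, S.Em hu, h]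

theorem Efr (hv : v ∈ X) (k : K) : finrank (ZMod 2) (E (σ k v)) ≤ finrank (ZMod 2) (E v) := by
  have := S.fin
  refine le_trans (Submodule.finrank_mono (t := (E v).map (σ k)) fun x hx => ?_) (Submodule.finrank_map_le _ _)
  exact ⟨_, (S.Em hv k).1 hx, app_inv' σ k x⟩

section pair

variable (hv : v ∈ X) (b : polar q v u = 1)
include hv b

theorem AU (h : w ∈ Y σ q R v) (he : w ∈ E v) (hu : polar q u w = 0) : w = 0 := by
  obtain ⟨r, hr, h⟩ := h
  have r1 := S.inj v hv r hr u b (by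
    rw [h.app1 b, add_assoc u, aba]
    exact add_mem he (Submodule.smul_mem _ _ (S.vE v hv)))
  subst r1
  have := h.uniq (ei0 v) b
  rw [add_zero] at this
  refine this.resolve_right fun c => ?_
  rw [c, bc, b] at hu
  exact z01 hu.symm

theorem adj (h : w ∈ Y σ q R v) : w + polar q u w • v ∈ Y σ q R v ∧ polar q u (w + polar q u w • v) = 0 :=
  ⟨add_mem h (Submodule.smul_mem _ _ (S.vY hv)), by
    rw [polar_add_right, bsr, bc q u v, b, mul_one, z2_add]⟩

theorem dec (hx : polar q v x = 0) : ∃ a ∈ Y σ q R v, polar q u a = 0 ∧ a + x ∈ E v := by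
  obtain ⟨r, hr, h⟩ := S.surj v hv x u hx b
  obtain ⟨w, hw⟩ := S.ei v hv r hr
  refine ⟨_, (S.adj hv b ⟨r, hr, hw⟩).1, (S.adj hv b ⟨r, hr, hw⟩).2, ?_⟩
  rw [hw.app1 b] at h
  convert add_mem h (Submodule.smul_mem _ (polar q w u + q w + polar q u w) (S.vE v hv)) using 1
  refine c2 ?_
  match_scalars <;> grind

theorem zero (ha : ∀ a ∈ Y σ q R v, polar q u a = 0 → polar q x a = 0) (he : ∀ e ∈ E v, polar q x e = 0)
    (hu : polar q u x = 0) : x = 0 := by
  refine (line (v := v) S.toSp fun y hy => ?_).resolve_right fun c => ?_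
  · obtain ⟨a, h1, h2, h3⟩ := S.dec hv b hy
    have := he _ h3
    rwa [polar_add_right, ha a h1 h2, zero_add] at this
  · rw [c, bc, b] at hu
    exact z01 hu.symm

theorem frA : 7 ≤ finrank (ZMod 2) (Y σ q R v ⊓ p1 q u : Submodule (ZMod 2) V) + finrank (ZMod 2) (E v) := by
  have := S.fin
  have h1 := S.fr_p1 hv
  have h2 : p1 q v ≤ (Y σ q R v ⊓ p1 q u) ⊔ E v := fun x hx => by
    obtain ⟨a, h1, h2, h3⟩ := S.dec hv b (mem_p1.1 hx)
    exact Submodule.mem_sup.2 ⟨a, ⟨h1, mem_p1.2 h2⟩, _, h3, by rw [← add_assoc, aa, zero_add]⟩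
  have h3 := Submodule.finrank_mono h2
  have h4 := Submodule.finrank_add_le_finrank_add_finrank (Y σ q R v ⊓ p1 q u) (E v)
  omega

theorem sec (w x : V) : ∃ a ∈ Y σ q R v, polar q u a = 0 ∧ polar q w a = 0 ∧ a ≠ 0 ∧ a ≠ x := by
  have := S.fin
  have h1 := S.frA hv b
  have h2 := S.Ek hv
  have h3 := finrank_inf_p1 (q := q) (Y σ q R v ⊓ p1 q u) w
  have h4 := finrank_span1 x
  obtain ⟨a, ha, h⟩ := exists_not_mem (A := Submodule.span (ZMod 2) {x})
    (B := Y σ q R v ⊓ p1 q u ⊓ p1 q w) (by omega)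
  rw [mem_span1, not_or] at h
  exact ⟨a, ha.1.1, mem_p1.1 ha.1.2, mem_p1.1 ha.2, h⟩

variable (hu : u ∈ X)
include hu

theorem ns (wv : w ∈ Y σ q R v) (wu : w ∈ Y σ q R u) (q1 : q w = 1) (he : e ∈ E v)
    (eu : polar q u e = 0) : e = 0 := by
  have b' := (bc q u v).trans b
  have sw : ∀ w ∈ Y σ q R v, w ∈ Y σ q R u → q w = 1 → ∃ g : K, σ g v = u ∧
      ∀ x, polar q v x = 0 → polar q u x = 0 → σ g x = x + polar q w x • w := fun w wv wu q1 => by
    obtain ⟨r, -, h⟩ := wv
    obtain ⟨r', -, h'⟩ := wu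
    refine ⟨r * r' * r, ?_, fun x h1 h2 => ?_⟩
    · rw [t1 h h' b q1, bc q w v, h.1, polar_same, b']
      simp [← add_assoc, aa]
    · rw [t1 h h' b q1, h1, h2]
      simp
  obtain ⟨g, g1, g2⟩ := sw w wv wu q1
  have AB : ∀ a ∈ Y σ q R v, polar q u a = 0 → a ∈ Y σ q R u := fun a ha au => by
    have := S.Yh hv g ha
    rw [g1, g2 a (Yp ha) au] at this
    exact (add_mem_cancel_right (Submodule.smul_mem _ _ wu)).1 this
  have k1 : ∀ a ∈ Y σ q R v, polar q u a = 0 → q a = 1 → a ≠ w → ∀ e ∈ E v, polar q u e = 0 →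
      polar q w e = 0 ∧ polar q a e = 0 := fun a ha au qa ne e he eu => by
    obtain ⟨g', g3, g4⟩ := sw a ha (AB a ha au) qa
    have e1 := S.Eh g v hv e he
    have e2 := S.Eh g' v hv e he
    rw [g1, g2 e (S.vE' hv he) eu] at e1
    rw [g3, g4 e (S.vE' hv he) eu] at e2
    have e3 : polar q w e • w + polar q a e • a = 0 := S.AU hu b'
      (add_mem (Submodule.smul_mem _ _ wu) (Submodule.smul_mem _ _ (AB a ha au)))
      (by convert add_mem e1 e2 using 1; refine c2 ?_; match_scalars <;> grind)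
      (by rw [polar_add_right, bsr, bsr, Yp wv, Yp ha]; simp)
    have w0 : w ≠ 0 := fun c => by rw [c, map_zero] at q1; exact z01 q1
    have a0 : a ≠ 0 := fun c => by rw [c, map_zero] at qa; exact z01 qa
    rcases zmod2_cases (polar q w e) with c | c <;> rcases zmod2_cases (polar q a e) with d | d <;>
      simp only [c, d, zero_smul, one_smul, add_zero, zero_add, az] at e3
    exacts [⟨c, d⟩, (a0 e3).elim, (w0 e3).elim, (ne e3.symm).elim]
  have k2 : ∀ a ∈ Y σ q R v, polar q u a = 0 → polar q w a = 0 → a ≠ 0 → a ≠ w → ∀ e ∈ E v,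
      polar q u e = 0 → polar q w e = 0 ∧ polar q a e = 0 := fun a ha au aw a0 ne e he eu => by
    rcases zmod2_cases (q a) with c | c
    · have := k1 (a + w) (add_mem ha wv) (by rw [polar_add_right, au, Yp wu, add_zero])
        (by rw [q_add, c, q1, bc, aw]; simp) (by simpa using a0) e he eu
      refine ⟨this.1, ?_⟩
      have h2 := this.2
      rwa [polar_add_left, this.1, add_zero] at h2
    · exact k1 a ha au c ne e he eu
  obtain ⟨a0, h1, h2, h3, h4, h5⟩ := S.sec hv b w w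
  have wU := fun e he eu => (k2 a0 h1 h2 h3 h4 h5 e he eu).1
  have k3 : ∀ a ∈ Y σ q R v, polar q u a = 0 → polar q w a = 0 → polar q e a = 0 := fun a ha au aw => by
    by_cases c : a = 0
    · simp [c]
    by_cases d : a = w
    · rw [d, bc, wU e he eu]
    · rw [bc, (k2 a ha au aw c d e he eu).2]
  by_contra e0
  obtain ⟨a, ha, au, ae⟩ : ∃ a ∈ Y σ q R v, polar q u a = 0 ∧ polar q e a = 1 := by
    by_contra c
    exact e0 (S.zero hv b (fun a ha au => z2_ne1.1 fun d => c ⟨a, ha, au, d⟩) (fun _ h => S.Eb hv he h) eu)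
  have aw : polar q w a = 1 := z2_ne.1 fun c => z01 ((k3 a ha au c).symm.trans ae)
  have := S.zero hv b (x := e + w) (fun a' ha' au' => by
    rw [polar_add_left]
    rcases zmod2_cases (polar q w a') with c | c
    · rw [c, k3 a' ha' au' c, add_zero]
    · have := k3 (a + a') (add_mem ha ha') (by rw [polar_add_right, au, au', add_zero])
        (by rw [polar_add_right, aw, c]; rfl)
      rw [polar_add_right, ae, z2_add] at this
      rw [c, ← this]
      rfl) (fun e' he' => by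
    have := wU (e' + polar q u e' • v) (add_mem he' (Submodule.smul_mem _ _ (S.vE v hv)))
      (by rw [polar_add_right, bsr, b', mul_one, z2_add])
    rw [polar_add_right, bsr, bc q w v, Yp wv, mul_zero, add_zero] at this
    rw [polar_add_left, S.Eb hv he he', this, add_zero]) (by rw [polar_add_right, eu, Yp wu, add_zero])
  rw [← az.1 this, S.Es v hv e he] at q1
  exact z01 q1

theorem f4 (wv : w ∈ Y σ q R v) (h3 : polar q u w = 0) (wu : w' ∈ Y σ q R u) (h2 : polar q v w' = 0)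
    (h4 : polar q w w' = 0) (q1 : q w = 0) (q2 : q w' = 0) (he : e ∈ E v) :
    polar q w e • w' + polar q w' e • w ∈ E v := by
  obtain ⟨r, -, h⟩ := wv
  obtain ⟨r', -, h'⟩ := wu
  have k := t4 h h' b h2 h3 h4 q1 q2
  have := S.Eh (r * r' * (r * r')) v hv e he
  rw [k v, k e, bc q w v, bc q w' v, h.1, h2, zero_smul, zero_smul, add_zero, add_zero, add_assoc] at this
  exact (add_mem_cancel_left he).1 this

theorem small (d1 : finrank (ZMod 2) (E v) ≤ 3) (d2 : finrank (ZMod 2) (E u) ≤ 3) :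
    ∃ w ∈ Y σ q R v, w ∈ Y σ q R u ∧ q w = 1 := by
  have := S.fin
  have b' := (bc q u v).trans b
  by_contra c
  have c' : ∀ w ∈ Y σ q R v, w ∈ Y σ q R u → q w = 0 := fun w h1 h2 => z2_ne1.1 fun d => c ⟨w, h1, h2, d⟩
  have h1 := S.frA hv b
  have h2 := S.frA hu b'
  have h3 := finrank_inf_ge (Y σ q R v ⊓ p1 q u) (Y σ q R u ⊓ p1 q v) (p1 q v ⊓ p1 q u)
    (fun x hx => ⟨mem_p1.2 (Yp hx.1), hx.2⟩) (fun x hx => ⟨hx.2, mem_p1.2 (Yp hx.1)⟩)
  have h4 := finrank_lt_of (inf_le_left : p1 q v ⊓ p1 q u ≤ p1 q v) (x := v) (mem_p1.2 (polar_same _ _))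
    (fun h => z01 ((mem_p1.1 h.2).symm.trans b'))
  have h5 := S.fr_p1 hv
  set W := Y σ q R v ⊓ p1 q u ⊓ (Y σ q R u ⊓ p1 q v) with hW
  have sW : ∀ w ∈ W, q w = 0 := fun w h => c' w h.1.1 h.2.1
  have pW : ∀ w ∈ W, ∀ e ∈ E v, polar q w e = 0 := fun w hw e he => by
    have h6 := finrank_span1 w
    obtain ⟨w', hw', n⟩ := exists_not_mem (A := Submodule.span (ZMod 2) {w}) (B := W) (by omega)
    have := S.AU hv b (add_mem (Submodule.smul_mem _ _ hw'.1.1) (Submodule.smul_mem _ _ hw.1.1))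
      (S.f4 hv b hu hw.1.1 (Yp hw.2.1) hw'.2.1 (Yp hw'.1.1) (b_ts sW hw hw') (sW _ hw) (sW _ hw') he)
      (by rw [polar_add_right, bsr, bsr, Yp hw.2.1, Yp hw'.2.1]; simp)
    refine z2_ne1.1 fun d => n ?_
    rw [d, one_smul, az] at this
    rw [this]
    exact Submodule.smul_mem _ _ (Submodule.mem_span_singleton_self w)
  have h7 := S.sing_le (E := W ⊔ E v) fun x hx => by
    obtain ⟨a, ha, e, he, rfl⟩ := Submodule.mem_sup.1 hx
    rw [q_add, sW a ha, S.Es v hv e he, pW a ha e he]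
    simp
  have h8 := finrank_add_le (le_sup_left : W ≤ W ⊔ E v) le_sup_right fun x hx he =>
    S.AU hv b hx.1.1 he (Yp hx.2.1)
  omega

end pair

theorem full (hv : v ∈ X) (d : finrank (ZMod 2) (E v) ≤ 3) (hx : polar q v x = 0) : ∃ k, Ei σ q v x k := by
  obtain ⟨k, hk⟩ := S.orbit hv (S.ne0 v hv)
  have b := (bc q _ _).trans hk
  have hu := S.orb k v hv
  obtain ⟨w, h1, h2, h3⟩ := S.small hv b hu d ((S.Efr hv k).trans d)
  obtain ⟨a, ha, au, he⟩ := S.dec hv b hx
  have := S.ns hv b hu h1 h2 h3 (add_mem he (Submodule.smul_mem _ (polar q (σ k v) x) (S.vE v hv)))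
    (by rw [polar_add_right, polar_add_right, bsr, hk, au, mul_one, zero_add, z2_add])
  obtain ⟨r, -, h⟩ := add_mem ha (Submodule.smul_mem _ (polar q (σ k v) x) (S.vY hv))
  rw [add_right_comm, az] at this
  exact ⟨r, this ▸ h⟩

theorem all (hv : v ∈ X) (f : ∀ x, polar q v x = 0 → ∃ k, Ei σ q v x k) (qx : q x = 0) (x0 : x ≠ 0) :
    x ∈ X ∧ ∀ y, polar q x y = 0 → ∃ k, Ei σ q x y k := by
  have F : ∀ k y, polar q (σ k v) y = 0 → ∃ j, Ei σ q (σ k v) y j := fun k y hy => by
    obtain ⟨j, h⟩ := f (σ k⁻¹ y) (by rw [← S.polar k, app_inv', hy])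
    exact ⟨_, app_inv' σ k y ▸ h.cj S.toFm k⟩
  obtain ⟨k, hk⟩ := S.orbit hv x0
  obtain ⟨j, hj⟩ := S.orbit hv (S.ne0 _ (S.orb k v hv))
  rw [bc] at hj
  obtain ⟨r, h⟩ := F k (x + σ j v) (by rw [polar_add_right, hk, hj]; rfl)
  have : x = σ (r * j) v := by
    rw [app_mul, h.app1 hj, q_add, qx, S.qσ, S.sing v hv, polar_add_left, polar_same]
    refine c2 ?_
    match_scalars <;> grind
  rw [this]
  exact ⟨S.orb _ v hv, F _⟩

section big

variable (d : ∀ v ∈ X, 4 ≤ finrank (ZMod 2) (E v)) (hv : v ∈ X)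
include d hv

theorem mx (h : ∀ e ∈ E v, polar q x e = 0) : x ∈ E v := by
  have := S.fin
  have h1 := S.fr_pp (E v)
  have h2 := d v hv
  exact mem_of_le (B := pp q (E v)) (fun y hy => mem_perp.2 fun e he => S.Eb hv he hy) (by omega)
    (mem_perp.2 fun e he => (bc q _ _).trans (h e he))

variable (b : polar q v u = 1)
include b

theorem frU : 3 ≤ finrank (ZMod 2) (E v ⊓ p1 q u : Submodule (ZMod 2) V) := by
  have := S.fin
  have h1 := finrank_inf_p1 (q := q) (E v) u
  have h2 := d v hv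
  omega

theorem exe (wv : w ∈ Y σ q R v) (wu : polar q u w = 0) (w0 : w ≠ 0) : ∃ e ∈ E v, polar q w e = 1 := by
  by_contra c
  exact w0 (S.AU hv b wv (S.mx d hv fun e he => z2_ne1.1 fun h => c ⟨e, he, h⟩) wu)

variable (hu : u ∈ X)
include hu

theorem ABs (wv : w ∈ Y σ q R v) (wu : w ∈ Y σ q R u) : q w = 0 := z2_ne1.1 fun c => by
  have := S.fin
  have h1 := S.frU d hv b
  obtain ⟨e, he, e0⟩ := exists_ne_zero (B := E v ⊓ p1 q u) (by omega)
  exact e0 (S.ns hv b hu wv wu c he.1 (mem_p1.1 he.2))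

theorem As (wv : w ∈ Y σ q R v) (h3 : polar q u w = 0) : q w = 0 := z2_ne1.1 fun q1 => by
  have b' := (bc q u v).trans b
  have w0 : w ≠ 0 := fun c => by rw [c, map_zero] at q1; exact z01 q1
  have wE : w ∉ E v := fun h => z01 ((S.Es v hv w h).symm.trans q1)
  obtain ⟨e, he, we⟩ := S.exe d hv b wv h3 w0
  have k : ∀ w' ∈ Y σ q R u, polar q v w' = 0 → polar q w w' = 0 → w' ≠ 0 → w' + q w' • w ∈ E v ∧
      ∀ a ∈ Y σ q R v, polar q u a = 0 → polar q w' a = (1 + q w') * polar q w a := by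
    intro w' wu h2 h4 w1
    obtain ⟨r, -, h⟩ := id wv
    obtain ⟨r', -, h'⟩ := id wu
    rcases zmod2_cases (q w') with q2 | q2
    · have k := t2 h h' b h2 h3 h4 q1 q2
      have kv : σ (r * r' * (r * r')) v = v := by
        rw [k, bc q w v, bc q w' v, h.1, h2, polar_same]; simp
      have e1 := S.Eh (r * r' * (r * r')) v hv e he
      rw [kv, k, S.vE' hv he, we, add_assoc, add_mem_cancel_left he] at e1
      have e2 : w' ∈ E v := by
        rcases zmod2_cases (polar q w' e) with c | c <;> rw [c] at e1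
        · simpa using e1
        · rw [zero_add, show (1 + 1 : ZMod 2) = 0 from rfl, zero_smul, add_zero, one_smul,
            add_mem_cancel_left (S.vE v hv)] at e1
          exact (wE e1).elim
      refine ⟨by simpa [q2] using e2, fun a ha _ => ?_⟩
      have e3 := S.Yh hv (r * r' * (r * r')) ha
      rw [kv, k, Yp ha, zero_add, add_mem_cancel_left
        (add_mem ha (Submodule.smul_mem _ _ (add_mem (S.vY hv) wv)))] at e3
      rw [q2, add_zero, one_mul, eq_comm, ← z2_add]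
      refine z2_ne1.1 fun c => w1 ?_
      rw [c, one_smul] at e3
      exact S.AU hv b e3 e2 h'.1
    · have k := t3 h h' b h2 h3 h4 q1 q2
      have kv : σ (r * r' * (r * r' * (r * r'))) v = v := by
        rw [k, bc q w v, bc q w' v, h.1, h2]; simp
      have e1 := S.Eh (r * r' * (r * r' * (r * r'))) v hv e he
      rw [kv, k, we, add_assoc, add_mem_cancel_left he, one_smul] at e1
      refine ⟨?_, fun a ha _ => ?_⟩
      · rcases zmod2_cases (polar q w' e) with c | c <;> rw [c] at e1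
        · exact (wE (by simpa using e1)).elim
        · rwa [q2, one_smul, add_comm, ← one_smul (ZMod 2) w']
      · have e3 := S.Yh hv (r * r' * (r * r' * (r * r'))) ha
        rw [kv, k, add_mem_cancel_left (add_mem ha (Submodule.smul_mem _ _ wv))] at e3
        rw [q2, show (1 + 1 : ZMod 2) = 0 from rfl, zero_mul]
        refine z2_ne1.1 fun c => ?_
        rw [c, one_smul] at e3
        exact z01 ((S.ABs d hv b hu e3 wu).symm.trans q2)
  have un : ∀ a ∈ Y σ q R u, polar q v a = 0 → polar q w a = 0 → a ≠ 0 → ∀ a' ∈ Y σ q R u,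
      polar q v a' = 0 → polar q w a' = 0 → a' ≠ 0 → q a = q a' → a = a' := by
    intro a h1 h2 h3 h4 a' h5 h6 h7 h8 h9
    obtain ⟨k1, k2⟩ := k a h1 h2 h3 h4
    obtain ⟨k3, k4⟩ := k a' h5 h6 h7 h8
    refine az.1 (S.zero hv b (fun y hy yu => ?_) (fun y hy => S.Eb hv ?_ hy) (Yp (add_mem h1 h5)))
    · rw [polar_add_left, k2 y hy yu, k4 y hy yu, h9, z2_add]
    · convert add_mem k1 k3 using 1
      rw [h9]
      refine c2 ?_
      match_scalars <;> grind
  obtain ⟨a, h1, h2, h3, h4, -⟩ := S.sec hu b' w 0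
  obtain ⟨a', h5, h6, h7, h8, h9⟩ := S.sec hu b' w a
  have n1 : a + a' ≠ 0 := fun c => h9 (az.1 c).symm
  have s1 := un a h1 h2 h3 h4 a' h5 h6 h7 h8
  have p2 : polar q v (a + a') = 0 := by rw [polar_add_right, h2, h6, add_zero]
  have p3 : polar q w (a + a') = 0 := by rw [polar_add_right, h3, h7, add_zero]
  have s2 := un a h1 h2 h3 h4 _ (add_mem h1 h5) p2 p3 n1
  have s3 := un a' h5 h6 h7 h8 _ (add_mem h1 h5) p2 p3 n1
  have n2 : q a ≠ q a' := fun c => h9 (s1 c).symm
  have n3 : q a ≠ q (a + a') := fun c => h8 (by simpa using s2 c)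
  have n4 : q a' ≠ q (a + a') := fun c => h4 (by simpa using s3 c)
  revert n2 n3 n4
  generalize q a = x, q a' = y, q (a + a') = z
  revert x y z
  decide

theorem BU (wu : w' ∈ Y σ q R u) (h2 : polar q v w' = 0) : w' ∈ E v := by
  have b' := (bc q u v).trans b
  by_contra c
  have k : ∀ w ∈ Y σ q R v, polar q u w = 0 → polar q w' w = 0 → w ≠ 0 → w' + w ∈ E v := by
    intro w wv h3 h4 w0
    obtain ⟨e, he, we⟩ := S.exe d hv b wv h3 w0
    have := S.f4 hv b hu wv h3 wu h2 ((bc q _ _).trans h4) (S.As d hv b hu wv h3) (S.As d hu b' hv wu h2) he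
    rw [we, one_smul] at this
    rcases zmod2_cases (polar q w' e) with c' | c' <;> rw [c'] at this
    · exact (c (by simpa using this)).elim
    · rwa [one_smul] at this
  obtain ⟨a, h1, h3, h4, h5, -⟩ := S.sec hv b w' 0
  obtain ⟨a', h6, h7, h8, h9, n⟩ := S.sec hv b w' a
  refine n (az.1 (S.AU hv b (add_mem h6 h1) ?_ (by rw [polar_add_right, h3, h7, add_zero])))
  convert add_mem (k a h1 h3 h4 h5) (k a' h6 h7 h8 h9) using 1
  refine c2 ?_
  match_scalars <;> grind

theorem UB (he : e ∈ E v) (eu : polar q u e = 0) : e ∈ Y σ q R u := by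
  have := S.fin
  have b' := (bc q u v).trans b
  have h1 := S.frA hu b'
  have h2 := S.Ek hu
  have h3 := S.Ek hv
  have h4 := finrank_lt_of (inf_le_left : E v ⊓ p1 q u ≤ E v) (S.vE v hv)
    (fun h => z01 ((mem_p1.1 h.2).symm.trans b'))
  exact (mem_of_le (A := Y σ q R u ⊓ p1 q v) (B := E v ⊓ p1 q u)
    (fun x hx => ⟨S.BU d hv b hu hx.1 (mem_p1.1 hx.2), mem_p1.2 (Yp hx.1)⟩) (by omega) ⟨he, mem_p1.2 eu⟩).1

theorem G0 (he : e ∈ E v) (eu : polar q u e = 0) (hx : u + e ∈ X) : e = 0 := by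
  have := S.fin
  have h1 := S.frU d hv b
  have h2 := finrank_span1 e
  obtain ⟨e', he', n⟩ := exists_not_mem (A := Submodule.span (ZMod 2) {e}) (B := E v ⊓ p1 q u) (by omega)
  have b1 : polar q v (u + e) = 1 := by rw [polar_add_right, b, S.vE' hv he, add_zero]
  have u1 := mem_p1.1 he'.2
  obtain ⟨r, -, h⟩ := S.UB d hv b hu he'.1 u1
  obtain ⟨r', -, h'⟩ := S.UB d hv b1 hx he'.1 (by rw [polar_add_left, u1, S.Eb hv he he'.1, add_zero])
  have k := t5 h h' eu (S.Es v hv _ he'.1)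
  refine S.zero hv b (fun a ha _ => z2_ne1.1 fun c => n ?_) (fun _ h => S.Eb hv he h) eu
  have e1 := S.Yh hv (r * r') ha
  rw [k v, k a, S.Eb hv he (S.vE v hv), S.Eb hv he'.1 (S.vE v hv), zero_smul, zero_smul, add_zero, add_zero,
    add_assoc, add_mem_cancel_left ha, c, one_smul] at e1
  have e2 := S.AU hv b e1 (add_mem he'.1 (Submodule.smul_mem _ _ he))
    (by rw [polar_add_right, bsr, u1, eu]; simp)
  rw [az.1 e2]
  exact Submodule.smul_mem _ _ (Submodule.mem_span_singleton_self e)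

theorem G1 (hx : x ∈ X) (bx : polar q v x = 1) : E u ≤ E x := by
  have b' := (bc q u v).trans b
  obtain ⟨a, ha, au, he⟩ := S.dec hv b (x := x + u) (by rw [polar_add_right, b, bx]; rfl)
  obtain ⟨r, hr, h⟩ := id ha
  have aE := S.BU d hu b' hv ha au
  have e1 : σ r x = u + (a + (x + u) + (polar q a x + q a) • v) := by
    rw [h.app1 bx]
    refine c2 ?_
    match_scalars <;> grind
  have hE := add_mem he (Submodule.smul_mem _ (polar q a x + q a) (S.vE v hv))
  have hX := S.orb r x hx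
  have q0 := S.sing _ hX
  rw [e1] at hX q0
  rw [q_add, S.sing u hu, S.Es v hv _ hE, add_zero, zero_add] at q0
  rw [S.G0 d hv b hu hE q0 hX, add_zero] at e1
  intro y hy
  have e2 : σ r y ∈ E u := by
    rw [h.2, S.Eb hu aE hy, S.Es u hu a aE]
    simpa using add_mem hy (Submodule.smul_mem _ _ aE)
  rwa [← e1, S.Em hx, app_inv] at e2

theorem G (hx : x ∈ X) (bx : polar q v x = 1) : E x = E u :=
  le_antisymm (S.G1 d hv bx hx hu b) (S.G1 d hv b hu hx bx)

theorem Ene : E v ≠ E u := fun c => z01 ((S.vE' hv (c ▸ S.vE u hu)).symm.trans b)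

theorem nb (ha : w ∈ Y σ q R v) (au : polar q u w = 0) (hx : x ∈ X) (h : polar q x (u + w) = 1) :
    E x = E v := by
  obtain ⟨r, -, k⟩ := id ha
  have := S.orb r u hu
  rw [k.app1 b, bc, au, S.As d hv b hu ha au, add_zero, zero_smul, add_zero] at this
  exact S.G d this (by rw [bc, polar_add_right, b, k.1, add_zero]) hv hx ((bc q _ _).trans h)

theorem tw (hx : x ∈ X) : E x = E v ∨ E x = E u := by
  have b' := (bc q u v).trans b
  by_contra c
  rw [not_or] at c
  have k1 : ∀ a ∈ Y σ q R v, polar q u a = 0 → polar q x (u + a) = 0 := fun a ha au =>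
    z2_ne1.1 fun h => c.1 (S.nb d hv b hu ha au hx h)
  have k2 : ∀ a ∈ Y σ q R u, polar q v a = 0 → polar q x (v + a) = 0 := fun a ha au =>
    z2_ne1.1 fun h => c.2 (S.nb d hu b' hv ha au hx h)
  have xu : polar q x u = 0 := by simpa using k1 0 (zero_mem _) (by simp)
  have xv : polar q x v = 0 := by simpa using k2 0 (zero_mem _) (by simp)
  refine S.ne0 x hx (S.zero hv b (fun a ha au => ?_) (fun e he => ?_) ((bc q _ _).trans xu))
  · simpa [xu] using k1 a ha au
  · have hE := add_mem he (Submodule.smul_mem _ (polar q u e) (S.vE v hv))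
    have := k2 _ (S.UB d hv b hu hE (by rw [polar_add_right, bsr, b', mul_one, z2_add])) (S.vE' hv hE)
    simpa [xv, bsr] using this

theorem sgn : ∃ l : K →* ℤˣ, ∀ k, l k = 1 ↔ E (σ k v) = E v := by
  classical
  refine ⟨MonoidHom.mk' (fun k => if E (σ k v) = E v then 1 else -1) fun a c => ?_, fun k => ?_⟩
  · have n := S.Ene d (S.orb a v hv) ((S.polar a v u).trans b) (S.orb a u hu)
    have n' := S.Ene d hv b hu
    rw [app_mul]
    rcases S.tw d hv b hu (S.orb c v hv) with h | h <;> rw [S.Ec (S.orb c v hv) ‹_› h a, h]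
    · simp
    · rcases S.tw d hv b hu (S.orb a v hv) with h1 | h1 <;>
        rcases S.tw d hv b hu (S.orb a u hu) with h2 | h2 <;> simp_all [n'.symm]
  · by_cases h : E (σ k v) = E v <;> simp [h]

theorem kill (tr : ∀ l : K →* ℤˣ, (∀ v ∈ X, ∀ r ∈ R v, l r = 1) → ∀ k, l k = 1) : False := by
  obtain ⟨l, hl⟩ := S.sgn d hv b hu
  have := tr l fun x hx r hr => (hl r).2 (by
    by_cases c : E x = E v
    · rw [← S.Ec hx hv c r, S.fixv hx hr, c]
    · obtain ⟨k, hk⟩ := S.orbit hv (S.ne0 x hx)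
      have hy := S.orb k v hv
      have bx := (bc q _ _).trans hk
      have e : E (σ k v) = E v := (S.tw d hv b hu hy).resolve_right fun h =>
        S.Ene d hx bx hy (((S.tw d hv b hu hx).resolve_left c).trans h.symm)
      rw [← S.Ec hy hv e r, S.G d hx bx hy (S.orb r _ hy) ((S.bv hx hr _).trans bx), e])
  rcases S.irr (E v) (fun k x hx => (hl k).1 (this k) ▸ S.Eh k v hv x hx) with e | e
  · have := S.vE v hv
    rw [e] at this
    exact S.ne0 v hv this
  · exact z01 ((S.vE' hv (by rw [e]; trivial)).symm.trans b)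

end big

end T

end Tw

theorem two (S : Sy σ q 4 X E R) (irr : ∀ W, Iv σ W → W = ⊥ ∨ W = ⊤) (ne : X.Nonempty)
    (ei : ∀ v ∈ X, ∀ r ∈ R v, ∃ u, Ei σ q v u r)
    (tr : ∀ l : K →* ℤˣ, (∀ v ∈ X, ∀ r ∈ R v, l r = 1) → ∀ k, l k = 1) :
    (∀ v, q v = 0 → v ≠ 0 → v ∈ X) ∧ ∀ v u, q v = 0 → v ≠ 0 → polar q v u = 0 → ∃ k, Ei σ q v u k := by
  have T : Tw.T σ q X E R := ⟨S, ei, irr⟩
  by_cases c : ∃ v ∈ X, finrank (ZMod 2) (E v) ≤ 3
  · obtain ⟨v, hv, d⟩ := c
    exact ⟨fun x qx x0 => (T.all hv (fun _ => T.full hv d) qx x0).1,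
      fun x y qx x0 => (T.all hv (fun _ => T.full hv d) qx x0).2 y⟩
  · obtain ⟨v, hv⟩ := ne
    obtain ⟨k, hk⟩ := T.orbit hv (S.ne0 v hv)
    exact (T.kill (fun x hx => not_le.1 fun h => c ⟨x, hx, h⟩) hv ((bc q _ _).trans hk) (S.orb k v hv) tr).elim

end H9.X9
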