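import Cfsg.Agent.Lib.X9.Lp

set_option autoImplicit false
set_option linter.unusedSectionVars false
set_option maxHeartbeats 400000
set_option maxRecDepth 100000
set_option synthInstance.maxSize 100000
set_option synthInstance.maxHeartbeats 400000

namespace H9.X9

open H95 H4.LX Subgroup H9.WC H75.DW Cfsg
open H39.MS (lm)

universe u

namespace Fl

open Lp

/-- bit `j` tells that `e` lies in the solid number `j` -/
def jm (e : ℕ) : ℕ := Nat.land (Nat.shiftRight 0x108628000000000006092800000000000000000000000000090a1800000000000000000000000000000000000000000020451800000000000000000000000000108628000000000006092800000000000000000000000000090a1800000000000000000000000000000000000000000020451800000000000a1800280000000020a40028000000000000000000000000000000000000000000000000000000000000000000000000052800180000000010540018000000000a1800280000000020a40028000000000000000000000000000000000000000000000000000000000000000000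000000052800180000000010540018000000001812028000000000000000000000000024210280000000000000000000000000000000000000000001a2018000000000000000000000000002510180000000001812028000000000000000000000000024210280000000000000000000000000000000000000000001a20180000000000000000000000000025101800000000000000000000000000000000000000000000000000000000000000000000000002800122200000000028021220000000014002212000000000140111200000000000000000000000000000000000000000000000000000000000000000000000028001222000000000280212200000000140022120000000001401112000000001210a400000000000000000000000000000000000000000004a064000000000021209400000000000000000000000000000000000000000008505400000000001210a400000000000000000000000000000000000000000004a0640000000000212094000000000000000000000000000000000000000000085054000000000000000000000000000000000000000000220180240000000008824024000000000000000000000000000000000000000011028014000000000441401400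000000000000000000000000000000000000002201802400000000088240240000000000000000000000000000000000000000110280140000000004414014000000000000000000000000300482400000000000000000000000000c0842400000000000000000000000000308814000000000000000000000000000c44140000000000000000000000000300482400000000000000000000000000c0842400000000000000000000000000308814000000000000000000000000000c44140000000000030048900000000000c08490000000000030885000000000000c4450000000000003c0300000000000003c3000000000000003f000000003fffffff000000000030048900000000000c08490000000000030885000000000000c4450000000000003c0300000000000003c3000000000000003f000000003fffffff (Nat.mul 32 e)) 1073741823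
/-- the singular vectors orthogonal to `16` -/
def sl : List ℕ := [0, 2, 4, 6, 8, 10, 12, 14, 16, 18, 20, 22, 24, 26, 28, 30, 32, 36, 40, 44, 48, 52, 56, 60, 64, 66, 72, 74, 80, 82, 88, 90, 96, 102, 104, 110, 112, 118, 120, 126, 128, 130, 132, 134, 144, 146, 148, 150, 160, 164, 170, 174, 176, 180, 186, 190, 192, 194, 204, 206, 208, 210, 220, 222, 224, 230, 234, 236, 240, 246, 250, 252]
/-- the matrix with first column `1` -/
def m8 (c1 c2 c3 c4 c5 c6 c7 : ℕ) : ℕ :=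
  1 + 256 * (c1 + 256 * (c2 + 256 * (c3 + 256 * (c4 + 256 * (c5 + 256 * (c6 + 256 * c7))))))
/-- test for `Ln 1` -/
def l1 (a : ℕ) : Bool := Nat.ble a 1
/-- the last step of the classification -/
noncomputable def leaf (j M c5 c6 c7 : ℕ) : Bool := im (Nat.beq (mm M M) I8)
  (eL [0, 1, 2, 3, 4, 5, 6, 7] (fun t => Nat.beq M (fg (t * 8 ^ j) j)) ||
    (l1 (c5 ^^^ 32) && l1 (c6 ^^^ 64) && l1 (c7 ^^^ 128)))

theorem eqns_fl : True := by
  have := @jm.eq_1
  have := @sl.eq_1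
  have := @m8.eq_1
  have := @l1.eq_1
  have := @leaf.eq_1
  trivial

theorem l1_iff {a : ℕ} : l1 a = true ↔ Ln 1 a := by
  rw [l1, Nat.ble_eq, Ln]
  omega
theorem jm_spec : ∀ e < 256, ∀ j < 30, (jm e).testBit j = true → lm (sg j) e < 16 := by decide +kernel
theorem sl_spec : ∀ a < 256, q0 a = 0 → b0 16 a = 0 → a ∈ sl := by decide +kernel
theorem sol' : (aL sl fun a => aL sl fun b => iz (b0 a b) (aL sl fun d => iz (b0 a d) (iz (b0 b d)
    (Nat.blt 0 (Nat.land (Nat.land (jm a) (jm b)) (jm d)))))) = true := by decide +kernel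
theorem sol : ∀ a ∈ sl, ∀ b ∈ sl, b0 a b = 0 → ∀ d ∈ sl, b0 a d = 0 → b0 b d = 0 →
    0 < jm a &&& jm b &&& jm d := by
  simpa only [aL_iff, iz_iff, Nat.blt_eq, Nat.land_eq] using sol'
theorem span' : (al 256 fun e => iz (b0 1 e) (al 16 fun a => iz (b0 a e)
    (eL [0, 1] (Nat.beq a) || al 16 fun b => iz (b0 b e) (eL [0, 1, a, a ^^^ 1] (Nat.beq b) ||
    al 16 fun d => iz (b0 d e) (eL [0, 1, a, a ^^^ 1, b, b ^^^ 1, b ^^^ a, b ^^^ (a ^^^ 1)] (Nat.beq d) ||
    Nat.blt e 16))))) = true := by decide +kernel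
theorem span : ∀ e < 256, b0 1 e = 0 → ∀ a < 16, b0 a e = 0 → a ∈ [0, 1] ∨ ∀ b < 16, b0 b e = 0 →
    b ∈ [0, 1, a, a ^^^ 1] ∨ ∀ d < 16, b0 d e = 0 →
    d ∈ [0, 1, a, a ^^^ 1, b, b ^^^ 1, b ^^^ a, b ^^^ (a ^^^ 1)] ∨ e < 16 := by
  simpa only [al_iff, eL_iff, iz_iff, Nat.blt_eq, Nat.beq_eq, Bool.or_eq_true, exists_eq_right'] using span'
theorem ts16 : ∀ a < 16, ∀ b < 16, b0 a b = 0 := by decide +kernel
theorem cls' : (al 3 fun j => al 256 fun c4 => im (Nat.blt (c4 ^^^ 16 ^^^ 32 * 2 ^ j) 16) (iz (q0 c4)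
    (al 16 fun c1 => im (l1 (c1 ^^^ 2)) (iz (b0 c1 c4) (al 16 fun c2 => im (l1 (c2 ^^^ 4)) (iz (b0 c2 c4)
    (al 16 fun c3 => im (l1 (c3 ^^^ 8)) (iz (b0 c3 c4)
    (al 256 fun c5 => im (Nat.blt (c5 ^^^ 32) 16) (iz (q0 c5) (iz (b0 c5 c4)
    (al 256 fun c6 => im (Nat.blt (c6 ^^^ 64) 16) (iz (q0 c6) (iz (b0 c6 c4) (iz (b0 c6 c5)
    (al 256 fun c7 => im (Nat.blt (c7 ^^^ 128) 16) (iz (q0 c7) (iz (b0 c7 c4) (iz (b0 c7 c5) (iz (b0 c7 c6)
    (leaf j (m8 c1 c2 c3 c4 c5 c6 c7) c5 c6 c7))))))))))))))))))))) = true := by decide +kernel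
theorem cls : ∀ j < 3, ∀ c4 < 256, c4 ^^^ 16 ^^^ 32 * 2 ^ j < 16 → q0 c4 = 0 →
    ∀ c1 < 16, Ln 1 (c1 ^^^ 2) → b0 c1 c4 = 0 → ∀ c2 < 16, Ln 1 (c2 ^^^ 4) → b0 c2 c4 = 0 →
    ∀ c3 < 16, Ln 1 (c3 ^^^ 8) → b0 c3 c4 = 0 → ∀ c5 < 256, c5 ^^^ 32 < 16 → q0 c5 = 0 → b0 c5 c4 = 0 →
    ∀ c6 < 256, c6 ^^^ 64 < 16 → q0 c6 = 0 → b0 c6 c4 = 0 → b0 c6 c5 = 0 →
    ∀ c7 < 256, c7 ^^^ 128 < 16 → q0 c7 = 0 → b0 c7 c4 = 0 → b0 c7 c5 = 0 → b0 c7 c6 = 0 →
    mm (m8 c1 c2 c3 c4 c5 c6 c7) (m8 c1 c2 c3 c4 c5 c6 c7) = I8 →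
    (∃ t ∈ [0, 1, 2, 3, 4, 5, 6, 7], m8 c1 c2 c3 c4 c5 c6 c7 = fg (t * 8 ^ j) j) ∨
      (Ln 1 (c5 ^^^ 32) ∧ Ln 1 (c6 ^^^ 64)) ∧ Ln 1 (c7 ^^^ 128) := by
  simpa only [al_iff, eL_iff, iz_iff, im_iff, leaf, Nat.blt_eq, Nat.beq_eq, l1_iff, Bool.or_eq_true,
    Bool.and_eq_true] using cls'
theorem fg_mix : ∀ a < 8, ∀ b < 8, ∀ c < 8, fg (a + 8 * b + 64 * c) 0 = fg (a * 8 ^ 0) 0 ∧
    fg (a + 8 * b + 64 * c) 1 = fg (b * 8 ^ 1) 1 ∧ fg (a + 8 * b + 64 * c) 2 = fg (c * 8 ^ 2) 2 := by decide +kernel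
theorem fg_ne : ∀ j < 3, ∀ t < 8, ∀ k < 3, Ln 1 (lm (fg (t * 8 ^ j) j) (32 * 2 ^ k) ^^^ 32 * 2 ^ k) → k = j := by
  decide +kernel
theorem fe_ph' : (al 512 fun l => al 8 fun k => Nat.blt (lm (pw (fg l 0) (Nat.land k 1)) (lm (pw (fg l 1) (Nat.land k 2))
    (lm (pw (fg l 2) (Nat.land k 4)) 16)) ^^^ 16 ^^^ 32 * k) 16) = true := by decide +kernel
theorem fe_ph : ∀ l < 512, ∀ k < 8, lm (fe l k) 16 ^^^ 16 ^^^ 32 * k < 16 := fun l hl k hk => by
  have := fe_ph'
  simp only [al_iff, Nat.blt_eq] at this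
  rw [fe, lm_mm _ _ (by norm_num), lm_mm _ _ (by norm_num)]
  exact this l hl k hk
theorem ph_dec : ∀ a < 256, b0 1 a = 0 → ∃ k < 8, a ^^^ 32 * k < 16 := by decide +kernel
theorem dec1 : ∀ a < 256, b0 1 a = 0 → a % 16 < 16 ∧ ∃ x ∈ [0, 32], ∃ y ∈ [0, 64], ∃ w ∈ [0, 128],
    a = a % 16 ^^^ x ^^^ y ^^^ w := by decide +kernel
theorem ln_all {M : ℕ} (h : ∀ e < 16, Ln 1 (lm M e ^^^ e)) (h1 : Ln 1 (lm M 32 ^^^ 32))
    (h2 : Ln 1 (lm M 64 ^^^ 64)) (h3 : Ln 1 (lm M 128 ^^^ 128)) (a : ℕ) (ha : a < 256) (k : b0 1 a = 0) :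
    Ln 1 (lm M a ^^^ a) := by
  obtain ⟨he, x, hx, y, hy, w, hw, e⟩ := dec1 a ha k
  have h0 := h 0 (by norm_num)
  rw [e]
  simp only [List.mem_cons, List.not_mem_nil, or_false] at hx hy hw
  refine (((h _ he).lin ?_).lin ?_).lin ?_
  · rcases hx with rfl | rfl <;> assumption
  · rcases hy with rfl | rfl <;> assumption
  · rcases hw with rfl | rfl <;> assumption

end Fl

variable {G : Type u} [Group G] [Finite G] {z s g r x y d : G} {Q : Subgroup G} {c : G → ℕ} {i n M a e v w : ℕ}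

open Fl

namespace Co

variable (C : Co z Q c)
include C

theorem solid16 (h : TI z Q c 16) : ∃ j < 30, ∀ e < 256, ES z Q c 16 (lm (sg j) e) ↔ e < 16 := by
  have s0 := C.es_self h.xs
  obtain ⟨a, ha, na⟩ := C.ex_not h [0, 16] (by simp)
  obtain ⟨b, hb, nb⟩ := C.ex_not h [0, 16, a, a ^^^ 16] (by simp)
  obtain ⟨d, hd, nd⟩ := C.ex_not h [0, 16, a, a ^^^ 16, b, b ^^^ 16, b ^^^ a, b ^^^ (a ^^^ 16)] (by simp)
  have m : ∀ {a}, ES z Q c 16 a → a ∈ sl := fun k => sl_spec _ (C.es_lt k) (C.es_q k) (C.es_b s0 k)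
  obtain ⟨j, hj⟩ := Nat.exists_testBit_of_ne_zero
    (sol a (m ha) b (m hb) (C.es_b ha hb) d (m hd) (C.es_b ha hd) (C.es_b hb hd)).ne'
  simp only [Nat.testBit_and, Bool.and_eq_true] at hj
  have j30 : j < 30 := by
    by_contra k
    have : jm d < 2 ^ j := lt_of_lt_of_le (lt_of_le_of_lt Nat.and_le_right (by norm_num : 1073741823 < 2 ^ 30))
      (Nat.pow_le_pow_right two_pos (not_lt.1 k))
    simp [Nat.testBit_lt_two_pow this] at hj
  obtain ⟨i0, i1, i2, i3⟩ := sg_spec j j30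
  have I := iso_of i0
  have iv : ∀ a < 256, lm (sg j) (lm (sg j) a) = a := fun a ha => by rw [← lm_mm _ _ ha, i3, lm_I8 a ha]
  have tr : ∀ {a} {l : List ℕ}, ES z Q c 16 a → lm (sg j) a ∈ l → a ∈ l.map (lm (sg j)) := fun k f =>
    List.mem_map.2 ⟨_, f, iv _ (C.es_lt k)⟩
  have key : ∀ e < 256, ES z Q c 16 (lm (sg j) e) → e < 16 := fun e he k => by
    have o : ∀ {a}, ES z Q c 16 a → b0 (lm (sg j) a) e = 0 := fun f => by
      rw [← I.bb (lm_lt _ _) he, iv _ (C.es_lt f), C.es_b f k]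
    refine (((span e he (i2 ▸ o s0) _ (jm_spec a (C.es_lt ha) j j30 hj.1.1) (o ha)).resolve_left (fun f => na ?_)
      _ (jm_spec b (C.es_lt hb) j j30 hj.1.2) (o hb)).resolve_left (fun f => nb ?_)
      _ (jm_spec d (C.es_lt hd) j j30 hj.2) (o hd)).resolve_left fun f => nd ?_
    · simpa only [List.map, lm_zero, i1] using tr ha f
    · simpa only [List.map, lm_zero, i1, lm_xor, iv a (C.es_lt ha)] using tr hb f
    · simpa only [List.map, lm_zero, i1, lm_xor, iv a (C.es_lt ha), iv b (C.es_lt hb)] using tr hd f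
  refine ⟨j, j30, fun e he => ⟨key e he, fun k => C.es_max h (lm_lt _ _) fun f hf => ?_⟩⟩
  have := C.es_lt hf
  rw [← iv f this, I.bb (lm_lt _ _) he]
  exact ts16 _ (key _ (lm_lt _ _) (by rwa [iv f this])) e k

theorem flag_cls (hE : ∀ e < 256, ES z Q c 1 e ↔ e < 16) (h : RM z Q c 1 M) {j : ℕ} (hj : j < 3)
    (k : lm M 16 ^^^ 16 ^^^ 32 * 2 ^ j < 16) : (∃ t < 8, M = fg (t * 8 ^ j) j) ∨
      ∀ a < 256, b0 1 a = 0 → Ln 1 (lm M a ^^^ a) := by
  have I := C.rm_iso h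
  have e1 : ∀ e < 16, Ln 1 (lm M e ^^^ e) := fun e he => C.rm_ln h ((hE e (by omega)).2 he)
  have e2 : ∀ e < 16, lm M e < 16 := fun e he =>
    (hE _ (lm_lt _ _)).1 (C.rm_fix h ▸ C.es_orb h.hm ((hE e (by omega)).2 he))
  have e3 : ∀ a < 256, b0 1 a = 0 → lm M a ^^^ a < 16 := fun a ha f =>
    (hE _ (xor_lt (lm_lt _ _) ha)).1 (C.rm_es h ha f)
  have q : ∀ a < 256, q0 a = 0 → q0 (lm M a) = 0 := fun a ha f => (I.2 a ha).trans f
  have b : ∀ a < 256, ∀ b < 256, b0 a b = 0 → b0 (lm M a) (lm M b) = 0 := fun a ha b hb f => (I.bb ha hb).trans f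
  have eM : m8 (lm M 2) (lm M 4) (lm M 8) (lm M 16) (lm M 32) (lm M 64) (lm M 128) = M := by
    have := mk_lm I.1
    rwa [C.rm_fix h] at this
  have := cls j hj _ (lm_lt _ _) k (q _ (by norm_num) (by decide +kernel))
    _ (e2 2 (by norm_num)) (e1 _ (by norm_num)) (b _ (by norm_num) _ (by norm_num) (by decide +kernel))
    _ (e2 4 (by norm_num)) (e1 _ (by norm_num)) (b _ (by norm_num) _ (by norm_num) (by decide +kernel))
    _ (e2 8 (by norm_num)) (e1 _ (by norm_num)) (b _ (by norm_num) _ (by norm_num) (by decide +kernel))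
    _ (lm_lt _ _) (e3 32 (by norm_num) (by decide +kernel)) (q _ (by norm_num) (by decide +kernel))
    (b _ (by norm_num) _ (by norm_num) (by decide +kernel))
    _ (lm_lt _ _) (e3 64 (by norm_num) (by decide +kernel)) (q _ (by norm_num) (by decide +kernel))
    (b _ (by norm_num) _ (by norm_num) (by decide +kernel)) (b _ (by norm_num) _ (by norm_num) (by decide +kernel))
    _ (lm_lt _ _) (e3 128 (by norm_num) (by decide +kernel)) (q _ (by norm_num) (by decide +kernel))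
    (b _ (by norm_num) _ (by norm_num) (by decide +kernel)) (b _ (by norm_num) _ (by norm_num) (by decide +kernel))
    (b _ (by norm_num) _ (by norm_num) (by decide +kernel))
  rw [eM] at this
  refine (this (C.rm_sq h)).imp (fun ⟨t, ht, e⟩ => ⟨t, by simp at ht; omega, e⟩) fun f a ha k => ?_
  exact ln_all e1 f.1.1 f.1.2 f.2 a ha k

theorem flag (hE : ∀ e < 256, ES z Q c 1 e ↔ e < 16) (h : TI z Q c 1) :
    ∃ l < 512, ∀ M, RM z Q c 1 M ↔ ∃ k < 8, M = fe l k := by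
  have b16 : b0 1 16 = 1 := by decide +kernel
  have e1 : ∀ {M}, RM z Q c 1 M → ∀ e < 16, Ln 1 (lm M e ^^^ e) := fun h e he => C.rm_ln h ((hE e (by omega)).2 he)
  have gen : ∀ j < 3, ∃ g, RM z Q c 1 g ∧ lm g 16 ^^^ 16 ^^^ 32 * 2 ^ j < 16 := fun j hj => by
    have : 32 * 2 ^ j < 256 ∧ b0 1 (32 * 2 ^ j) = 0 := by interval_cases j <;> decide +kernel
    obtain ⟨g, h1, h2⟩ := C.rm_surj h.xs (a := 16) (by norm_num) b16 this.1 this.2
    exact ⟨g, h1, (hE _ (C.es_lt h2)).1 h2⟩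
  choose! g g1 g2 using gen
  have key : ∀ j < 3, (∀ a < 256, b0 1 a = 0 → Ln 1 (lm (g j) a ^^^ a)) → ∀ M, RM z Q c 1 M →
      Ln 1 (lm M (32 * 2 ^ j) ^^^ 32 * 2 ^ j) := fun j hj k M hM => by
    have a1 := k _ (xor_lt (lm_lt M 16) (by norm_num)) (C.rm_b hM (by norm_num))
    have a2 := a1.xor (e1 hM _ (g2 j hj))
    rw [lm_xor, lm_xor, lm_xor, C.rm_comm hM (g1 j hj) (by norm_num)] at a2
    convert a2 using 1
    exact Nat.eq_of_testBit_eq fun i => by simp only [Nat.testBit_xor]; grind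
  have all : ∀ j < 3, ∃ t < 8, g j = fg (t * 8 ^ j) j := fun j hj => by
    refine (C.flag_cls hE (g1 j hj) hj (g2 j hj)).resolve_right fun k => ?_
    have : ∀ i < 3, ∀ a < 256, b0 1 a = 0 → Ln 1 (lm (g i) a ^^^ a) := fun i hi => by
      rcases C.flag_cls hE (g1 i hi) hi (g2 i hi) with ⟨t, ht, e⟩ | e
      · rwa [← fg_ne i hi t ht j hj (e ▸ key j hj k _ (g1 i hi))]
      · exact e
    obtain ⟨M, hM, a, ha, h1, h2⟩ := h
    exact h2 (ln_all (e1 hM) (key 0 (by norm_num) (this _ (by norm_num)) M hM)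
      (key 1 (by norm_num) (this _ (by norm_num)) M hM) (key 2 (by norm_num) (this _ (by norm_num)) M hM) a ha h1)
  obtain ⟨t0, h0, k0⟩ := all 0 (by norm_num)
  obtain ⟨t1, h1, k1⟩ := all 1 (by norm_num)
  obtain ⟨t2, h2, k2⟩ := all 2 (by norm_num)
  obtain ⟨m0, m1, m2⟩ := fg_mix t0 h0 t1 h1 t2 h2
  have hl : t0 + 8 * t1 + 64 * t2 < 512 := by omega
  generalize t0 + 8 * t1 + 64 * t2 = l at m0 m1 m2 hl
  have r : ∀ k, RM z Q c 1 (fe l k) := fun k => by
    rw [fe, m0, m1, m2, ← k0, ← k1, ← k2]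
    exact C.rm_mul (C.rm_pw (g1 0 (by norm_num)) _)
      (C.rm_mul (C.rm_pw (g1 1 (by norm_num)) _) (C.rm_pw (g1 2 (by norm_num)) _))
  refine ⟨l, hl, fun M => ⟨fun hM => ?_, fun ⟨k, _, e⟩ => e ▸ r k⟩⟩
  obtain ⟨k, hk, e⟩ := ph_dec _ (xor_lt (lm_lt M 16) (by norm_num)) (C.rm_b hM (a := 16) (by norm_num))
  refine ⟨k, hk, C.rm_uniq hM (r k) (by norm_num) b16 ((hE _ (xor_lt (lm_lt _ _) (lm_lt _ _))).2 ?_)⟩
  have := Nat.xor_lt_two_pow (n := 4) e (fe_ph l hl k hk)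
  rwa [x4, Nat.xor_self, Nat.xor_zero, x4, Nat.xor_self, Nat.xor_zero] at this

theorem back {m : ℕ} (hm : Iso m) (hv : v < 256) {f : ℕ → ℕ}
    (k : ∀ M, RM z Q (fun x => lm (iv m) (c x)) v M ↔ ∃ k < 8, M = f k) (M : ℕ) :
    RM z Q c (lm m v) M ↔ ∃ k < 8, M = cj m (f k) := by
  have e := fun N => C.rm_rebase hm.inv (lm_lt m v) (N := N)
  rw [hm.iv_lm hv] at e
  refine ⟨fun h => ?_, fun ⟨j, hj, f⟩ => ?_⟩
  · obtain ⟨j, hj, f⟩ := (k _).1 ((e _).2 ⟨M, h, rfl⟩)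
    exact ⟨j, hj, by rw [← f, hm.cj_iv' (C.rm_iso h).1]⟩
  · obtain ⟨N, h1, h2⟩ := (e _).1 ((k _).2 ⟨j, hj, rfl⟩)
    rwa [f, h2, hm.cj_iv' (C.rm_iso h1).1]

theorem flag_at {m : ℕ} (hm : Iso m) (hE : ∀ e < 256, ES z Q c (lm m 1) (lm m e) ↔ e < 16) (h : TI z Q c (lm m 1)) :
    ∃ l < 512, ∀ M, RM z Q c (lm m 1) M ↔ ∃ k < 8, M = cj m (fe l k) := by
  have e1 := hm.iv_lm (a := 1) (by norm_num)
  obtain ⟨l, hl, k⟩ := (C.rebase hm.inv).flag (fun e he => by
    rw [← hE e he, ← C.es_rebase hm.inv (lm_lt _ _) (lm_lt _ _), e1, hm.iv_lm he])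
    (e1 ▸ C.ti_rebase hm.inv (lm_lt _ _) h)
  exact ⟨l, hl, C.back hm (by norm_num) k⟩

theorem flag_any {m : ℕ} (hm : Iso m) (h : TI z Q c (lm m 16)) :
    ∃ j < 30, ∃ l < 512, ∀ M, RM z Q c (lm m 16) M ↔ ∃ k < 8, M = cj m (cj (sg j) (fe l k)) := by
  have e1 := hm.iv_lm (a := 16) (by norm_num)
  have t := e1 ▸ C.ti_rebase hm.inv (lm_lt _ _) h
  obtain ⟨j, hj, hE⟩ := (C.rebase hm.inv).solid16 t
  obtain ⟨i0, i1, -, -⟩ := sg_spec j hj
  obtain ⟨l, hl, k⟩ := (C.rebase hm.inv).flag_at (iso_of i0) (i1.symm ▸ hE) (i1.symm ▸ t)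
  exact ⟨j, hj, l, hl, C.back hm (by norm_num) (i1 ▸ k)⟩

theorem es_iff_ln (h : TI z Q c v) (he : e < 256) :
    ES z Q c v e ↔ ∀ M, RM z Q c v M → Ln v (lm M e ^^^ e) :=
  ⟨fun k _ f => C.rm_ln f k, C.es_of_ln h he⟩

end Co

end H9.X9
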