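import Cfsg.Agent.Lib.X9.Stb

/-! The special involutions of the systems `0` and `6`: table facts. -/

set_option autoImplicit false
set_option maxRecDepth 100000
set_option maxHeartbeats 400000
set_option synthInstance.maxSize 100000
set_option synthInstance.maxHeartbeats 400000

namespace H9.X9.GeO

open H39.MS (lm)

/-- the special involutions -/
def sp (i j : ℕ) : ℕ :=
  (cond (Nat.beq i 0) [0x8448203008040301, 0x408102040800102, 0x8040301048840203, 0x210084020018004,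
    0x8050201028048205, 0x8240285008050201, 0x1002048001204008, 0x8042249009040201, 0x9040201008244209]
    [0x874b2cfc09050301, 0x70bdcec43830102, 0x8040f0104a860203]).getD j 0
/-- their number -/
def ns (i : ℕ) : ℕ := cond (Nat.beq i 0) 9 3
/-- a point of the base solid outside `E(1)` -/
def ef (i : ℕ) : ℕ := cond (Nat.beq i 0) 32 225
/-- the solids -/
def Nv (i j w : ℕ) : Prop := lm (sp i j) w = w
/-- `M` conjugates the special involution `j` to the special involution `l` -/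
def It (i M j l : ℕ) : Prop := mm M (sp i j) = mm (sp i l) M

instance instDecNv (i j w : ℕ) : Decidable (Nv i j w) := by unfold Nv; infer_instance
instance instDecIt (i M j l : ℕ) : Decidable (It i M j l) := by unfold It; infer_instance

theorem eqns_geo2 : True := by
  have := @sp.eq_1
  have := @ns.eq_1
  have := @ef.eq_1
  have := @Nv.eq_1
  have := @It.eq_1
  trivial

theorem t_ns : ∀ i ∈ [0, 6], 3 ≤ ns i ∧ ns i ≤ 9 := by decide +kernel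
theorem t_sq : ∀ i ∈ [0, 6], ∀ j < ns i, sp i j < 2 ^ 64 ∧ mm (sp i j) (sp i j) = I8 ∧ sp i j ≠ I8 ∧
    ∀ l < ns i, sp i j = sp i l → j = l := by decide +kernel
theorem t_p1 : ∀ i ∈ [0, 6], ∀ v < 256, InX i v → ∀ k < 8, ∀ j < ns i, ∃ l < ns i, It i (re i v k) j l := by
  decide +kernel
theorem t_p2 : ∀ i ∈ [0, 6], ∀ t ∈ stl i, ∀ j < ns i, ∃ l < ns i, It i t j l := by decide +kernel
theorem t_q : ∀ i ∈ [0, 6], ∀ j < ns i, ∀ w < 256, Nv i j w → q0 w = 0 := by decide +kernel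
theorem t_perp0 : ∀ i ∈ [0, 6], ∀ j < ns i, (∀ k < 8, Nv i j (cl (sp i j) k ^^^ 2 ^ k)) ∧
    ∀ w < 256, (∀ k < 8, b0 (cl (sp i j) k ^^^ 2 ^ k) w = 0) → Nv i j w := by decide +kernel
theorem t_perp : ∀ i ∈ [0, 6], ∀ j < ns i, ∀ w < 256, (∀ u < 256, Nv i j u → b0 u w = 0) → Nv i j w :=
  fun i hi j hj w hw h => (t_perp0 i hi j hj).2 w hw fun k hk =>
    h _ (xor_lt (cl_lt _ _) (pow_lt hk)) ((t_perp0 i hi j hj).1 k hk)
theorem t_triv : ∀ i ∈ [0, 6], ∀ k < 8, ∀ t ∈ stl i, (∀ w < 256, Nv i 0 w → lm (mm (re i 1 k) t) w = w) →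
    mm (re i 1 k) t = I8 ∨ mm (re i 1 k) t = sp i 0 := by decide +kernel
theorem t_a0 : ∀ i ∈ [0, 6], ∀ k < 8, lm (re i 1 k) 16 ^^^ 16 ^^^ ef i < 16 → re i 1 k = sp i 0 := by
  decide +kernel
theorem t_img : ∀ i ∈ [0, 6], ∀ w < 256, lm (sp i 0) w = w → ∃ b < 256, w = lm (sp i 0) b ^^^ b := by
  decide +kernel
theorem t_E : ∀ i ∈ [0, 6], ∀ w < 256, Nv i 0 w → w < 16 ∨ w ^^^ ef i < 16 := by decide +kernel
theorem t_ef : ∀ i ∈ [0, 6], ef i < 256 ∧ Nv i 0 1 ∧ Nv i 0 (ef i) ∧ InX i (ef i) ∧ ¬InX i (ef i ^^^ 1) ∧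
    ef i ^^^ 1 ≠ 0 ∧ b0 (ef i) 1 = 0 ∧ InX i 2 ∧ InX i 3 ∧ It i I8 0 0 := by decide +kernel
theorem t_ty : ∀ i ∈ [0, 6], ∀ j < ns i, ∀ l < ns i, (j ≠ l → ∃ w < 256, Nv i j w ∧ ¬Nv i l w) ∧
    (j / 3 = l / 3 → j ≠ l → ∀ w < 256, Nv i j w → Nv i l w → w = 0) ∧
    (j / 3 ≠ l / 3 → ∃ w < 256, w ≠ 0 ∧ Nv i j w ∧ Nv i l w) := by decide +kernel
theorem t_sw : ∀ i ∈ [0, 6], ∀ j < 3, It i (sp i 0) j j → j = 0 := by decide +kernel
theorem t_flag : ∀ i ∈ [0, 6], ∀ w < 256, InX i w → Nv i 0 w →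
    ∃ v < 256, InX i v ∧ ∃ k < 8, lm (re i v k) 1 = w ∧ It i (re i v k) 0 0 := by decide +kernel
theorem t_12 : ∀ i ∈ [0, 6], It i (re i 2 1) 0 1 ∧ It i (re i 3 1) 0 2 ∧ lm (re i 2 1) 1 = 3 ∧ lm (re i 3 1) 1 = 2 ∧
    ∀ w < 4, lm (re i 2 1) w < 4 ∧ lm (re i 3 1) w < 4 := by decide +kernel
theorem t_six : ∀ i ∈ [0, 6], ∀ w < 256, Nv i 0 w → w ≠ 0 → ¬InX i w →
    ∃ t < 256, InX i t ∧ Nv i 0 t ∧ InX i (t ^^^ w) := by decide +kernel
theorem t_cov : ∀ i ∈ [0, 6], ∀ w < 256, InX i w → ∃ j < 3, Nv i j w := by decide +kernel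
theorem t_L : ∀ i ∈ [0, 6], (∀ j < ns i, (j < 3 ↔ (∃ w < 4, w ≠ 0 ∧ Nv i j w) ∧ ∃ w < 4, ¬Nv i j w)) ∧
    (∀ j < 3, ∀ v < 4, ∀ w < 4, Nv i j v ∨ Nv i j w ∨ Nv i j (v ^^^ w)) ∧ ∀ w < 4, ∃ j < 3, Nv i j w := by
  decide +kernel
theorem t_card : ∀ i ∈ [0, 6], ((Finset.range 256).filter (Nv i 0)).card = 16 ∧
    2 * ((Finset.range 256).filter fun w => Nv i 0 w ∧ InX i w).card + 17 = if i = 0 then 35 else 27 := by
  decide +kernel
theorem xor4 : ∀ v < 4, ∀ w < 4, v ^^^ w < 4 := by decide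

end H9.X9.GeO
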