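import Cfsg.Agent.Lib.X9.Stab
import Cfsg.Agent.Lib.MSub.HT4

/-!
The standard system number five gives the Harada-Norton group.
-/

set_option autoImplicit false
set_option linter.unusedSectionVars false
set_option maxHeartbeats 400000
set_option maxRecDepth 100000

namespace H9.X9

open H95 H4.LX Subgroup H9.WC H75.DW Cfsg
open H39.MS (lm)

universe u

namespace HNx

/-- the two primitive scalars of the field with four elements -/
def wv (b : Bool) : ℕ := cond b 0x953bf42c6aa2c70e 0x157bd43c62a6c50f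
/-- row and column of a point -/
def rc (b : Bool) (a : ℕ) : ℕ := Nat.land (Nat.shiftRight 0x77747127777777737774277773777771777217377777777432007777777700147477713777772777347700777700772177771777727774737777777773727417742717777377777724777700007777133777717277777477777772377777747137741777277777777774773777277717777771777377727400777777777777077772713777777770777137777277777077701727777777734410777777772344727770377777177744773077771277447777277770777173777777777071732771273777707777774477773120777744177770727777737777777017777772732770377717777777777077377727771777777277717773704477777777777747 (Nat.mul 4 (Nat.add (cond b 256 0) a))) 15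
/-- representatives of the rows and columns -/
def rp (b : Bool) (i : ℕ) : ℕ :=
  Nat.land (Nat.shiftRight 0x1016121a0100000001121a1610 (Nat.mul 8 (Nat.add (cond b 8 0) i))) 255
/-- change of coordinates -/
def mt : ℕ := 0x9ddd512083c24d04

/-- the finite test -/
def Ck (M : ℕ) (e f : Bool) : Prop :=
  (∀ b, mm M (wv b) = mm (wv (b ^^ e)) M) ∧ ∀ b,
    (∀ x < 256, rc b x < 5 → rc (b ^^ f) (lm M x) = rc (b ^^ f) (lm M (rp b (rc b x)))) ∧
    ∀ i < 5, rc (b ^^ f) (lm M (rp b i)) < 5 ∧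
      ∀ j < 5, rc (b ^^ f) (lm M (rp b i)) = rc (b ^^ f) (lm M (rp b j)) → i = j

instance instDecCk (M : ℕ) (e f : Bool) : Decidable (Ck M e f) := by unfold Ck; infer_instance

/-- `M` is semilinear of type `e` and acts on the two families with type `f` -/
def Pm (M : ℕ) (e f : Bool) : Prop :=
  (∀ b, ∀ a < 256, lm M (lm (wv b) a) = lm (wv (b ^^ e)) (lm M a)) ∧ ∀ b, ∀ x < 256, rc b x < 5 →
    rc (b ^^ f) (lm M x) < 5 ∧ ∀ y < 256, rc b y < 5 →
      (rc (b ^^ f) (lm M x) = rc (b ^^ f) (lm M y) ↔ rc b x = rc b y)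

theorem eqns_hn : True := by
  have := @wv.eq_1
  have := @rc.eq_1
  have := @rp.eq_1
  have := @mt.eq_1
  have := @Ck.eq_1
  have := @Pm.eq_1
  trivial

variable {M N : ℕ} {e f e' f' : Bool}

theorem Ck.pm (h : Ck M e f) : Pm M e f := by
  refine ⟨fun b a ha => ?_, fun b x hx h5 => ?_⟩
  · rw [← lm_mm _ _ ha, ← lm_mm _ _ ha, h.1 b]
  · rw [(h.2 b).1 x hx h5]
    refine ⟨((h.2 b).2 _ h5).1, fun y hy k5 => ?_⟩
    rw [(h.2 b).1 y hy k5]
    exact ⟨((h.2 b).2 _ h5).2 _ k5, fun e => by rw [e]⟩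

theorem Pm.mul (h : Pm M e f) (k : Pm N e' f') : Pm (mm M N) (e' ^^ e) (f' ^^ f) := by
  refine ⟨fun b a ha => ?_, fun b x hx h5 => ?_⟩
  · rw [lm_mm _ _ ha, lm_mm _ _ (lm_lt _ _), k.1 b a ha, h.1 _ _ (lm_lt _ _), Bool.xor_assoc]
  · have a := k.2 b x hx h5
    have a' := h.2 _ _ (lm_lt N x) a.1
    rw [lm_mm _ _ hx, ← Bool.xor_assoc]
    refine ⟨a'.1, fun y hy k5 => ?_⟩
    rw [lm_mm _ _ hy, a'.2 _ (lm_lt _ _) (k.2 b y hy k5).1, a.2 y hy k5]

theorem Pm.uniq (h : Pm M e f) (k : Pm M e' f') : e = e' ∧ f = f' := by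
  have w : rc false 1 < 5 ∧ rc false 96 < 5 ∧ rc true 1 < 5 ∧ rc true 96 < 5 ∧ rc false 1 = rc false 96 ∧
      rc true 1 ≠ rc true 96 := by decide +kernel
  have a := h.2 false 1 (by norm_num) w.1
  refine ⟨?_, ?_⟩
  · have b := (h.1 false 1 (by norm_num)).symm.trans (k.1 false 1 (by norm_num))
    rw [Bool.false_xor, Bool.false_xor] at b
    exact (show ∀ x < 256, ∀ f, rc f x < 5 → ∀ e e', lm (wv e) x = lm (wv e') x → e = e' by decide +kernel)
      _ (lm_lt _ _) _ a.1 _ _ b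
  · have b := (a.2 96 (by norm_num) w.2.1).2 w.2.2.2.2.1
    have b' := _root_.mt ((k.2 true 1 (by norm_num) w.2.2.1).2 96 (by norm_num) w.2.2.2.1).1 w.2.2.2.2.2
    by_contra n
    have : (true ^^ f') = (false ^^ f) := by revert n; cases f <;> cases f' <;> decide
    exact b' (this ▸ b)

theorem ck_rg : ∀ v < 256, InX 5 v → ∀ j < 3, ∃ e, Ck (rg 5 v j) e e := by decide +kernel

theorem ck_st : ∀ t ∈ stl 5, (t ∈ [0x8040201008040201, 0x48e628100c080a01, 0xea842410040c0601] ∧ Ck t false false) ∨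
    Ck t false true := by decide +kernel

theorem pm_re {v : ℕ} (hv : InX 5 v) (k : ℕ) : ∃ e, Pm (re 5 v k) e e := by
  have a : ∀ j < 3, ∀ n, ∃ e, Pm (pw (rg 5 v j) n) e e := fun j hj n => by
    unfold pw
    cases Nat.beq n 0
    · exact (ck_rg v hv.1 hv j hj).imp fun _ => Ck.pm
    · exact ⟨false, Ck.pm (show Ck I8 false false by decide +kernel)⟩
  obtain ⟨e0, a0⟩ := a 0 (by norm_num) (Nat.land k 1)
  obtain ⟨e1, a1⟩ := a 1 (by norm_num) (Nat.land k 2)
  obtain ⟨e2, a2⟩ := a 2 (by norm_num) (Nat.land k 4)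
  exact ⟨_, a0.mul (a1.mul a2)⟩

variable {G : Type u} [Group G] [Finite G] {z : G} {Q : Subgroup G} {c : G → ℕ}

theorem pm_hm (S : Std 5 z Q c) (h : HM z Q c M) : ∃ e f, Pm M e f :=
  S.ind (by decide) (fun M => ∃ e f, Pm M e f) (fun v hv k _ M _ ⟨_, _, p⟩ => by
    obtain ⟨e, a⟩ := pm_re hv k
    exact ⟨_, _, a.mul p⟩) (fun t ht _ => (ck_st t ht).elim (fun a => ⟨_, _, a.2.pm⟩) fun a => ⟨_, _, a.pm⟩) h

theorem even (S : Std 5 z Q c) (h : HM z Q c M) : ∃ e, Pm M e e := by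
  classical
  have ev : ∀ {M e f}, Pm M e f → ((∃ e, Pm M e e) ↔ e = f) := fun p =>
    ⟨fun ⟨_, q⟩ => (p.uniq q).1.trans (p.uniq q).2.symm, fun r => ⟨_, r ▸ p⟩⟩
  have := S.toCo.triv' (fun M => if ∃ e, Pm M e e then 1 else -1) (fun M N a b => by
    obtain ⟨e, f, p⟩ := pm_hm S a
    obtain ⟨e', f', q⟩ := pm_hm S b
    simp only [ev p, ev q, ev (p.mul q)]
    cases e <;> cases f <;> cases e' <;> cases f' <;> decide) (fun v M a => by
    have hv := S.X' (by decide) v a.xs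
    obtain ⟨k, -, r⟩ := (S.R v hv M).1 a
    rw [r]
    exact if_pos (pm_re hv k)) h
  by_contra n
  rw [if_neg n] at this
  exact absurd this (by decide)

theorem card (S : Std 5 z Q c) : Nat.card (centralizer ({z} : Set G)) ≤ 3686400 := by
  have a := S.card_le (by decide)
  have b : {t | t ∈ stl 5 ∧ HM z Q c t}.ncard ≤ 3 := by
    refine (Set.ncard_le_ncard (t := (({0x8040201008040201, 0x48e628100c080a01, 0xea842410040c0601} : Finset ℕ) :
      Set ℕ)) (fun t ht => ?_) (Finset.finite_toSet _)).trans (by rw [Set.ncard_coe_finset]; exact Finset.card_le_three)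
    rcases ck_st t ht.1 with k | k
    · simpa using k.1
    · obtain ⟨e, p⟩ := even S ht.2
      exact absurd ((k.pm.uniq p).1.trans (k.pm.uniq p).2.symm) (by decide)
  rw [S.toCo.card_cent]
  rw [show nX 5 * nY 5 = 2400 by decide] at a
  omega

theorem f_mt : ∀ a < 256, H39.MS.qf (lm mt a) = q0 a ∧ lm mt (lm 0x6ec0102c0f01aacc a) = a ∧
    (lm mt a = 0 ↔ a = 0) ∧ (lm mt a = 4 → a = 1) ∧ (lm mt a = 65 → a = 12) := by decide +kernel

theorem f_gn : ∀ a < 256, lm mt (lm (re 5 1 1) a) = H39.MS.gn 0 (lm mt a) ∧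
    lm mt (lm (mm (re 5 235 5) (re 5 15 4)) a) = H39.MS.gn 1 (lm mt a) ∧
    lm mt (lm (mm (re 5 14 1) (re 5 1 3)) a) = H39.MS.gn 2 (lm mt a) := by decide +kernel

theorem ht (S : Std 5 z Q c) : H39.MS.HT z Q fun x => lm mt (c x) := by
  have C := S.toCo
  have hm : ∀ v k, InX 5 v ∧ k < 8 → HM z Q c (re 5 v k) := fun v k h => (S.sub.rm h.1 h.2).hm
  have ac : ∀ {M i}, HM z Q c M → (∀ a < 256, lm mt (lm M a) = H39.MS.gn i (lm mt a)) →
      ∃ g, H39.MS.Act z Q (fun x => lm mt (c x)) g (H39.MS.gn i) := fun ⟨g, a⟩ h =>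
    ⟨g, a.cz, fun x hx => by beta_reduce; rw [a.app hx, h _ (C.lt x)]⟩
  have n1 : ∀ {x}, x ∈ Q → lm mt (c x) = 4 → c x = 1 ∧ Nr Q z x := fun {x} hx e => by
    have := (f_mt _ (C.lt x)).2.2.2.1 e
    exact ⟨this, (C.xs_iff hx).1 (by rw [this]; exact S.X 1 (inX_one 5 (by norm_num)).1)⟩
  refine ⟨C.h, fun x => lm_lt _ _, fun a ha => ?_, fun hx hy => by rw [C.mul hx hy, lm_xor],
    fun {x} hx => (f_mt _ (C.lt x)).2.2.1.trans (C.zero hx), fun {x} hx => by rw [C.sq hx, (f_mt _ (C.lt x)).1],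
    fun i hi => ?_, card S, fun hx e => (n1 hx e).2.cj, fun {x} hx e k => ?_, fun {g t} hs e ht f => ?_⟩
  · obtain ⟨x, hx, e⟩ := C.surj _ (lm_lt 0x6ec0102c0f01aacc a)
    exact ⟨x, hx, by rw [e, (f_mt a ha).2.1]⟩
  · interval_cases i
    · exact ac (hm 1 1 (by decide +kernel)) fun a ha => (f_gn a ha).1
    · exact ac (C.hm_mul (hm 235 5 (by decide +kernel)) (hm 15 4 (by decide +kernel))) fun a ha => (f_gn a ha).2.1
    · exact ac (C.hm_mul (hm 14 1 (by decide +kernel)) (hm 1 3 (by decide +kernel))) fun a ha => (f_gn a ha).2.2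
  · have e' := (f_mt _ (C.lt x)).2.2.2.2 e
    have := S.X' (by decide) _ ((C.xs_iff hx).2 (C.nr k hx fun r => by rw [r, C.c_z] at e'; omega))
    rw [e'] at this
    exact absurd this (by decide +kernel)
  · obtain ⟨e1, N⟩ := n1 hs e
    refine (C.es_iff N ht).1 ?_ g rfl
    rw [e1, (f_mt _ (C.lt t)).2.2.2.2 f]
    exact (S.E 1 (inX_one 5 (by norm_num)).1 12).2 (by decide +kernel)

end HNx

variable {G : Type u} [Group G] [Finite G] {z s g r x y d : G} {Q : Subgroup G} {c : G → ℕ} {i n M a e v w : ℕ}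

theorem Std.hn (S : Std 5 z Q c) : Spor.IsoHN G := (HNx.ht S).isoHN

end H9.X9
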