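import Cfsg.Agent.Lib.X9.Stab
import Cfsg.Agent.Lib.H4.LX5

/-! The systems `2` and `7` do not occur: the centralizer quotient embeds into `S₃ × S₆`. -/

set_option autoImplicit false
set_option linter.unusedSectionVars false
set_option maxHeartbeats 400000
set_option maxRecDepth 100000

namespace H9.X9.LXx

open H95 H4.LX Subgroup H9.WC H75.DW Cfsg
open H39.MS (lm)

/-- nine bits for each point: its solid and its two letters -/
def pt (i : ℕ) : ℕ := cond (Nat.beq i 2) 0x8a0000000000000000004300000000000000000009251148c4000088c240000000011291000000000160000000000000000000d0000000000000000000000000000000000000000000000980000000000000000005400000000000000000000000000000000000000000000000000000000001180000000000000000009400000000000000000000000000000000000000000000000000008a000000000000000092c2000000000000018200190000000000006200000000000000005200000000000000004a000000000a200000a200000000000290014200000000000000003200000000000000002a0000248000000000c20000000c400000012200000000000000011200000000000000010a0000242c1a0a84381ac09840000000003200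 0x8a000010c00000000000000000000000000000002230944a440000249440000000005231000000000000000000000000000000a800329200000c40000000000000000000048800c200000000000000000026000005400000000000000000000000000000000000000000000000000000000000000000000000000248008a000000000000000000c2000006400188018200000000046000009400000000000000000000000000000000000000000000000000000000000000000000000000000000000148004a000000000a200000a400000000000288014200000000000000000000000000016000003400000000000000000000000000000000000000000000000000000000000000000448010a0000242c1a0a840000c098400000e0683200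
/-- the points -/
def xl (i : ℕ) : List ℕ := cond (Nat.beq i 2) [1, 6, 7, 8, 9, 10, 11, 12, 13, 16, 24, 32, 36, 40, 45, 48, 56, 64, 66, 72, 75, 80, 88, 96, 102, 104, 111, 112, 120, 144, 153, 180, 189, 210, 219, 224, 225, 230, 231, 234, 235, 236, 237, 246, 255] [1, 2, 3, 6, 7, 10, 11, 12, 13, 16, 18, 48, 51, 64, 66, 72, 75, 80, 82, 120, 123, 128, 130, 132, 135, 144, 146, 180, 183, 192, 194, 204, 207, 208, 210, 224, 225, 230, 231, 234, 235, 236, 237, 252, 255]
/-- bit `j` of the vector `a` -/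
def bt (i a j : ℕ) : Bool := Nat.beq (Nat.land (Nat.shiftRight (pt i) (Nat.add (Nat.mul 9 a) j)) 1) 1
/-- strict evaluation -/
def st (n : ℕ) (f : ℕ → Bool) : Bool := Nat.rec (f 0) (fun m _ => f (Nat.succ m)) n
/-- `M` permutes the sets given by the bits `o, ..., o + n - 1` -/
def ck (i o n M : ℕ) : Bool := (List.range n).all fun j => (List.range n).any fun k =>
  (xl i).all fun a => st (lm M a) fun b => bt i a (o + j) == bt i b (o + k)
/-- two elements of order three fixing the base pair -/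
def tw (i e : ℕ) : ℕ := cond (Nat.beq i 2) (mm (re 2 6 5) (re 2 (10 + 2 * e) 7)) (mm (re 7 7 3) (re 7 (11 + 2 * e) 3))

theorem eqns_lx : True := by
  have := @pt.eq_1
  have := @xl.eq_1
  have := @bt.eq_1
  have := @ck.eq_1
  have := @tw.eq_1
  have := @st.eq_1
  trivial

theorem f1 : ∀ i ∈ [2, 7], ∀ a < 256, (InX i a ↔ a ∈ xl i) := by decide +kernel
theorem f2 : ∀ i ∈ [2, 7], ∀ a < 256, ∀ j < 9, bt i a j = true → a ∈ xl i := by decide +kernel
theorem st_eq (n : ℕ) (f : ℕ → Bool) : st n f = f n := by cases n <;> rfl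
theorem f3' : ∀ i ∈ [2, 7], ∀ v ∈ xl i, ∀ k < 3, (st (rg i v k) fun M => ck i 0 3 M && ck i 3 6 M) = true := by
  decide +kernel
theorem f3 : ∀ i ∈ [2, 7], ∀ v ∈ xl i, ∀ k < 3, (ck i 0 3 (rg i v k) && ck i 3 6 (rg i v k)) = true :=
  fun i hi v hv k hk => (st_eq _ fun M => ck i 0 3 M && ck i 3 6 M).symm.trans (f3' i hi v hv k hk)
theorem f4 : ∀ i ∈ [2, 7], ∀ t ∈ stl i, (ck i 0 3 t && ck i 3 6 t) = true := by decide +kernel
theorem f5 : ∀ i ∈ [2, 7], ∀ j < 9, ∀ k < 9, (∀ a ∈ xl i, bt i a j = bt i a k) → j = k := by decide +kernel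
theorem f6 : ∀ i ∈ [2, 7], ∀ a ∈ xl i, ∀ b ∈ xl i, (∀ j < 9, bt i a j = bt i b j) → a = b := by decide +kernel
theorem f7 : ∀ i ∈ [2, 7], ∀ j < 8, ∃ a ∈ xl i, a ^^^ 2 ^ j ∈ xl i := by decide +kernel
theorem f8 : ∀ i ∈ [2, 7], I8 ∈ stl i ∧ tw i 0 ∈ stl i ∧ tw i 1 ∈ stl i ∧ I8 ≠ tw i 0 ∧ I8 ≠ tw i 1 ∧
    tw i 0 ≠ tw i 1 ∧ nX i * nY i = 720 := by decide +kernel
theorem f9 : ∀ i ∈ [2, 7], ∀ a ∈ xl i, a < 256 := by decide +kernel

universe u

variable {G : Type u} [Group G] [Finite G] {z : G} {Q : Subgroup G} {c : G → ℕ} {i o n M : ℕ}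

section

variable (S : Std i z Q c) (hi : i ∈ [2, 7])
include S hi

omit S in
theorem big : i ∈ [0, 1, 2, 5, 6, 7, 8, 9] := by
  simp only [List.mem_cons, List.not_mem_nil, or_false] at hi ⊢
  omega

theorem red (on : o + n ≤ 9) (h : HM z Q c M) (k : ck i o n M = true) (j : Fin n) :
    ∃ k : Fin n, ∀ a < 256, bt i a (o + j) = true ↔ bt i (lm M a) (o + k) = true := by
  simp only [ck, st_eq, List.all_eq_true, List.any_eq_true, List.mem_range, beq_iff_eq] at k
  obtain ⟨m, hm, e⟩ := k j j.2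
  refine ⟨⟨m, hm⟩, fun a ha => ?_⟩
  by_cases x : a ∈ xl i
  · rw [e a x]
  refine iff_of_false (fun f => x (f2 i hi a ha _ (by omega) f)) fun f => x ?_
  have := S.orbX (big hi) (S.hm_inv h) ((f1 i hi _ (lm_lt _ _)).2 (f2 i hi _ (lm_lt _ _) _ (by omega) f))
  rw [(S.hm_iso h).iv_lm ha] at this
  exact (f1 i hi a ha).1 this

theorem hom (on : o + n ≤ 9) (h3 : ∀ v ∈ xl i, ∀ k < 3, ck i o n (rg i v k) = true)
    (h4 : ∀ t ∈ stl i, ck i o n t = true) :
    ∃ φ : centralizer ({z} : Set G) →* Equiv.Perm (Fin n), ∀ g : centralizer ({z} : Set G), ∀ M, Act z Q c g M →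
      (∀ j : Fin n, ∀ a < 256, bt i a (o + j) = true ↔ bt i (lm M a) (o + φ g j) = true) ∧ (M = I8 → φ g = 1) := by
  have hd : ∀ j k : Fin n, (∀ a < 256, bt i a (o + j) = true ↔ bt i a (o + k) = true) → j = k := fun j k e =>
    Fin.ext (by
      have := f5 i hi (o + j) (by omega) (o + k) (by omega) fun a ha => Bool.eq_iff_iff.2 (e a (f9 i hi a ha))
      omega)
  let p : ℕ → Prop := fun M => ∀ j : Fin n, ∃ k : Fin n, ∀ a < 256,
    bt i a (o + j) = true ↔ bt i (lm M a) (o + k) = true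
  have pm : ∀ M N, p M → p N → p (mm M N) := fun M N a b j => by
    obtain ⟨m, e⟩ := b j
    obtain ⟨m', e'⟩ := a m
    exact ⟨m', fun a ha => by rw [lm_mm _ _ ha, e a ha, e' _ (lm_lt _ _)]⟩
  have pp : ∀ M e, p M → p (pw M e) := fun M e a => by
    rw [pw]
    cases Nat.beq e 0
    exacts [a, fun j => ⟨j, fun a ha => by rw [cond_true, lm_I8 a ha]⟩]
  have i10 : i < 10 := by
    simp only [List.mem_cons, List.not_mem_nil, or_false] at hi
    omega
  obtain ⟨φ, e⟩ := S.perm_hom (fun (j : Fin n) a => bt i a (o + j) = true) hd fun M h =>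
    S.ind (big hi) p (fun v hv k _ M _ a => by
        obtain ⟨-, g0, g1, g2⟩ := re_gen i i10 v hv.1 hv
        have x := (f1 i hi v hv.1).1 hv
        exact pm _ _ (pm _ _ (pp _ _ (red S hi on (g0 ▸ (S.sub.rm hv (k := 1) (by norm_num)).hm) (h3 v x 0 (by norm_num))))
          (pm _ _ (pp _ _ (red S hi on (g1 ▸ (S.sub.rm hv (k := 2) (by norm_num)).hm) (h3 v x 1 (by norm_num))))
            (pp _ _ (red S hi on (g2 ▸ (S.sub.rm hv (k := 4) (by norm_num)).hm) (h3 v x 2 (by norm_num)))))) a)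
      (fun t ht h => red S hi on h (h4 t ht)) h
  refine ⟨φ, fun g M a => ⟨e g M a, fun f => Equiv.ext fun j => (hd _ _ fun b hb => ?_).symm⟩⟩
  have := e g M a j b hb
  rwa [f, lm_I8 b hb] at this

theorem eq_I8 (h : HM z Q c M) (e : ∀ j < 9, ∀ a < 256, bt i a j = true ↔ bt i (lm M a) j = true) : M = I8 := by
  have k : ∀ a ∈ xl i, lm M a = a := fun a ha => by
    have l := f9 i hi a ha
    exact (f6 i hi a ha _ ((f1 i hi _ (lm_lt _ _)).1 (S.orbX (big hi) h ((f1 i hi a l).2 ha)))
      fun j hj => Bool.eq_iff_iff.2 (e j hj a l)).symm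
  refine ext_cl (S.hm_iso h).1 I8_lt fun j hj => ?_
  obtain ⟨a, h1, h2⟩ := f7 i hi j hj
  have := k _ h2
  rw [lm_xor, k a h1, Nat.xor_right_inj] at this
  rw [← lm_pow _ hj, ← lm_pow _ hj, this, lm_I8 _ (pow_lt hj)]

theorem tw_hm (e : ℕ) (he : e < 2) : HM z Q c (tw i e) := by
  simp only [List.mem_cons, List.not_mem_nil, or_false] at hi
  have k : ∀ e < 2, InX 2 6 ∧ InX 2 (10 + 2 * e) ∧ InX 7 7 ∧ InX 7 (11 + 2 * e) := by decide +kernel
  obtain ⟨k1, k2, k3, k4⟩ := k e he
  rcases hi with rfl | rfl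
  · exact S.hm_mul (S.sub.rm k1 (k := 5) (by norm_num)).hm (S.sub.rm k2 (k := 7) (by norm_num)).hm
  · exact S.hm_mul (S.sub.rm k3 (k := 3) (by norm_num)).hm (S.sub.rm k4 (k := 3) (by norm_num)).hm

theorem card_ge : 2160 ≤ {M | HM z Q c M}.ncard := by
  obtain ⟨a, b, d, n1, n2, n3, e⟩ := f8 i hi
  have := S.card_ge (big hi)
  have k := Set.ncard_le_ncard (s := {I8, tw i 0, tw i 1}) (t := {t | t ∈ stl i ∧ HM z Q c t}) (by
    rintro x (rfl | rfl | rfl)
    exacts [⟨a, S.hm_one⟩, ⟨b, tw_hm S hi 0 (by norm_num)⟩, ⟨d, tw_hm S hi 1 (by norm_num)⟩])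
    ((List.finite_toSet (stl i)).subset fun _ h => h.1)
  rw [Set.ncard_eq_three.2 ⟨_, _, _, n1, n2, n3, rfl⟩] at k
  rw [e] at this
  omega

end

theorem even_mem {K : Subgroup (P3 × P6)} (h : 2160 ≤ Nat.card K) (x : P3) (y : P6)
    (hx : Equiv.Perm.sign x = 1) (hy : Equiv.Perm.sign y = 1) : (x, y) ∈ K := by
  have c := K.card_mul_index
  rw [show Nat.card (P3 × P6) = 4320 by simp [Fintype.card_perm, Nat.factorial]] at c
  have sq : ∀ g, g * g ∈ K := fun g => by
    rcases (show K.index = 1 ∨ K.index = 2 by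
      rcases Nat.lt_or_ge K.index 3 with f | f
      · have : K.index ≠ 0 := fun f => by rw [f] at c; omega
        omega
      · nlinarith) with f | f
    · rw [index_eq_one.1 f]; trivial
    · exact mul_self_mem_of_index_two f g
  have cb : ∀ g, g ^ 3 = 1 → g ∈ K := fun g e => by
    have := sq (g * g)
    rwa [show g * g * (g * g) = g ^ 3 * g by simp only [pow_succ, pow_zero, one_mul, mul_assoc], e, one_mul] at this
  have h1 : (x, (1 : P6)) ∈ K := cb _ (Prod.ext
    ((by decide : ∀ x : P3, Equiv.Perm.sign x = 1 → x ^ 3 = 1) x hx) (one_pow 3))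
  have h2 : closure {σ : P6 | σ.IsThreeCycle} ≤ K.comap (MonoidHom.inr P3 P6) :=
    (closure_le _).2 fun σ hσ => cb _ (Prod.ext (one_pow 3)
      ((congrArg (σ ^ ·) (show σ.IsThreeCycle from hσ).orderOf).symm.trans (pow_orderOf_eq_one σ)))
  rw [Equiv.Perm.closure_three_cycles_eq_alternating] at h2
  simpa using mul_mem h1 (mem_comap.1 (h2 (Equiv.Perm.mem_alternatingGroup.2 hy)))

theorem main (S : Std i z Q c) (hi : i ∈ [2, 7]) : False := by
  obtain ⟨φ, e⟩ := hom S hi (o := 0) (n := 3) (by norm_num)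
    (fun v hv k hk => (Bool.and_eq_true_iff.1 (f3 i hi v hv k hk)).1) fun t ht => (Bool.and_eq_true_iff.1 (f4 i hi t ht)).1
  obtain ⟨ψ, e'⟩ := hom S hi (o := 3) (n := 6) (by norm_num)
    (fun v hv k hk => (Bool.and_eq_true_iff.1 (f3 i hi v hv k hk)).2) fun t ht => (Bool.and_eq_true_iff.1 (f4 i hi t ht)).2
  have hk : ∀ x, φ.prod ψ x = 1 ↔ (x : G) ∈ Q := fun x => by
    obtain ⟨M, a⟩ := S.exists_act (mem_centralizer_singleton_iff.1 x.2)
    refine ⟨fun f => S.mem_Q (eq_I8 S hi ⟨_, a⟩ (fun j hj b hb => ?_) ▸ a), fun f =>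
      Prod.ext ((e x _ (S.act_Q f)).2 rfl) ((e' x _ (S.act_Q f)).2 rfl)⟩
    by_cases j3 : j < 3
    · have := (e x M a).1 ⟨j, j3⟩ b hb
      rwa [show φ x = 1 from congrArg Prod.fst f, zero_add, zero_add] at this
    · have := (e' x M a).1 ⟨j - 3, by omega⟩ b hb
      rwa [show ψ x = 1 from congrArg Prod.snd f, Equiv.Perm.one_apply, Fin.val_mk, show 3 + (j - 3) = j by omega] at this
  have c1 := (φ.prod ψ).ker.card_mul_index
  rw [index_ker, show (φ.prod ψ).ker = Q.subgroupOf _ from Subgroup.ext hk, hy_card S.T, S.card_cent,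
    show 2 ^ (2 * 4 + 1) = 512 from rfl] at c1
  have c2 := (card_ge S hi).trans_eq (Nat.eq_of_mul_eq_mul_left (by norm_num) c1).symm
  obtain ⟨s, N, -⟩ := S.X 1 (inX_one i (by
    simp only [List.mem_cons, List.not_mem_nil, or_false] at hi
    omega)).1
  obtain ⟨g, rfl⟩ := isConj_iff.1 N.cj
  exact N.ne (no_conj S.h S.card (φ.prod ψ).rangeRestrict (φ.prod ψ).rangeRestrict_surjective
    (fun x => (Subtype.ext_iff.trans (hk x))) (f := (φ.prod ψ).range.subtype)
    ⟨subtype_injective _, fun x y hx hy => ⟨⟨_, even_mem c2 x y hx hy⟩, rfl⟩⟩ N.sQ)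

end H9.X9.LXx

namespace H9.X9

open H95 H4.LX Subgroup H9.WC H75.DW Cfsg
open H39.MS (lm)

universe u

variable {G : Type u} [Group G] [Finite G] {z s g r x y d : G} {Q : Subgroup G} {c : G → ℕ} {i n M a e v w : ℕ}

theorem Std.lx (S : Std i z Q c) (hi : i = 2 ∨ i = 7) : False := LXx.main S (by simpa using hi)

end H9.X9
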