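import Cfsg.Agent.Lib.X9.O3T

/-! System `1`: tables for the normal subgroup of order `81` and the stabilizer of `1`. -/

set_option autoImplicit false
set_option maxRecDepth 100000
set_option maxHeartbeats 400000
set_option synthInstance.maxSize 100000
set_option synthInstance.maxHeartbeats 400000

namespace H9.X9.O3A

open Equiv
open H39.MS (lm)

/-- the table of `o3` -/
def ot (k : ℕ) : ℕ := Nat.land (Nat.shiftRight 0x70b3cec49850103161a2d12589410ecf9f5c203b77bff12070b0d0e78b4d2e1161a1cf069a5c30ef9f5f3e1864a2cf0070bde3fab6730d0161acfc1ba76213ff9f520d05599cec1075a3c08183050e7164b2df609214108f9a4c2e7e6ceaef6075a0dea29018305164b1c14381092eaf9a4f305d7ff7d14075adedbfad26134164bcf25ebc370dbf9a42034042c9f2507be3cbdfc61b45216af2d43ed70a5bdf940c252029f4a4307be0d5fcd5067b016af1ca1dc41765ff940f3b033ae99a107bede6e1e83858116afcf900f92946ef9402081e07d7b90960b3c04301490eb871a2dfa2105810468f5c2ebceea6efa960b0de601254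309871a1c18103452e668f5f309ffdbbd18960bded7d2f6a138871acf29c3e7b0d768f520382c085f29965a3ce061a1c10f874b2d1e70b0d0e068a4c20f9f5f3f1e965a0d02509012ed874b1cfc4181030268a4f3edae6eecfc965ade338343f0dc874bcfcd9252e13368a420dc7dbd0ecd96be3c5585f025ba87af2dab94e134556840c2ba7b0edbab96be0db7b4c1f65887af1c49a5d0e7b76840f3584a3f084996bede866712146987afcf78760305866840206999ecea787e0b3c7da1fc78926f1a2d83b0ed697d80f5c2925f0286837e0b0d9f90cdab706f1a1c6181dcba9f80f5f3706e3355617e0bdeae431e49416f1acf50520f58ae80f52041bde0b7507e5a3c99f04929766f4b2d67e158389980a4c2760eb7d7677e5a0d7bc178fa946f4b1c85d069eb7b80a4f3943f8604857e5ade4a12ab18a56f4bcfb403ba094a80a420a5ec55e6b47ebe3c2c1418cdc36faf2dd20509dc2c8040c2c3eae633d27ebe0dce25291e216faf1c3034380fce8040f321dbd7e0307ebedefff6fafc106fafcf01e7ebedff8040201008040201 (Nat.mul 64 k)) 18446744073709551615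
/-- the index of the element mapping `1` to `v` -/
def ix (v : ℕ) : ℕ := Nat.land (Nat.shiftRight 0x100002700330000004500000000004b0000294f354300004731000000004d2b00000026400000002e0000000006004a0004240000000000000000000800480000003d00002300001f0000090000003b001300002100000000000b000000390016000000000010000000000e001a00360000000000000000001c0c0018003800000019000d00001b00110000000000170037000000001d000f000000000015003a0000000000002000002200003e001200000000000a1e00000000003c001400490000000000002f00000041250000030000000700002d0000003f0000000500002a00000000003000000042004e00022c4c0000000032460000443450280000 (Nat.mul 8 v)) 255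
/-- digitwise addition in base three -/
def ad (k l : ℕ) : ℕ := (k + l) % 3 + 3 * ((k / 3 + l / 3) % 3) + 9 * ((k / 9 + l / 9) % 3) + 27 * ((k / 27 + l / 27) % 3)
/-- the table of `re 1 1` -/
def rt (l : ℕ) : ℕ := Nat.land (Nat.shiftRight 0x874b2dff0905030182422dd209050201844b24b40904030180422490090402018748287808050301824028500805020184482030080403018040201008040201 (Nat.mul 64 l)) 18446744073709551615
/-- the number of the block -/
def col (a : ℕ) : Fin 5 := Fin.ofNat 5 (Nat.land (Nat.shiftRight 0x4044444444444444044444434442414444444444444414444444444444444444444444444424444444444444444444444444444444444434444444444444444444444434444444444444444444444444444444444444442444444444444444444444444444444414444444444444444444444444444444044444444444444444 (Nat.mul 4 a)) 15)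
/-- `M` permutes the blocks as `σ` -/
def Pm (M : ℕ) (σ : Perm (Fin 5)) : Prop :=
  (∀ a ∈ [239, 226, 228], col (lm M a) = σ (col a)) ∧ ∀ a < 256, col (lm M a) = σ (col a)
/-- evaluates the first argument once -/
noncomputable def fr (x : ℕ) (f : ℕ → Bool) : Bool :=
  Nat.rec (motive := fun _ => Bool) (f 0) (fun k _ => f k) (Nat.succ x)
/-- `M` lies in the coset of `p` -/
def E (M p : ℕ) : Prop := ∃ k < 81, M = mm (o3 k) p
/-- `M` normalizes `W` -/
def Nm (W : ℕ → Prop) (M : ℕ) : Prop := ∀ N, W N → ∃ N', W N' ∧ mm M N = mm N' M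
/-- the normal subgroup of order `81` -/
def OM (N : ℕ) : Prop := ∃ k < 81, N = o3 k
/-- the eight long root matrices -/
def TM (N : ℕ) : Prop := ∃ j < 4, N = th j ∨ N = iv (th j)
/-- the stabilizer of `1` -/
def PM (p : ℕ) : Prop := ∃ l < 8, ∃ t ∈ ev1, p = mm (re 1 1 l) t

instance instDecPm (M : ℕ) (σ : Perm (Fin 5)) : Decidable (Pm M σ) := by unfold Pm; infer_instance

theorem eqns_o3a : True := by
  have := @ot.eq_1
  have := @ix.eq_1
  have := @ad.eq_1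
  have := @rt.eq_1
  have := @col.eq_1
  have := @Pm.eq_1
  have := @fr.eq_1
  have := @E.eq_1
  have := @Nm.eq_1
  have := @TM.eq_1
  have := @OM.eq_1
  have := @PM.eq_1
  trivial

theorem o3_eq : ∀ k < 81, o3 k = ot k := by decide +kernel
theorem re_eq : ∀ l < 8, re 1 1 l = rt l := by decide +kernel
theorem ad_lt (k l : ℕ) : ad k l < 81 := by unfold ad; omega
theorem ad_comm (k l : ℕ) : ad k l = ad l k := by simp only [ad, Nat.add_comm]
theorem fr_eq (x : ℕ) (f : ℕ → Bool) : fr x f = f x := rfl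
theorem ot_mul : ∀ k < 81, ∀ l < 81, Nat.beq (mm (ot k) (ot l)) (ot (ad k l)) = true := by decide +kernel
theorem ot_spec : ∀ k < 81, isoB (ot k) = true ∧ ix (lm (ot k) 1) = k ∧ ad k (ad k k) = 0 ∧ (ad k k = 0 → k = 0) ∧
    mm io (ot k) = mm (ot (ad k k)) io ∧ mm (ot k) io = mm (mm (ot (ad k k)) io) (ot k) ∧ Pm (ot k) 1 := by
  decide +kernel
theorem ad_can : ∀ k < 81, ∀ a < 81, ad k (ad a a) = ad a k → a = 0 := by decide +kernel
theorem ot_zero : ot 0 = I8 := by decide +kernel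
theorem rt_mul : ∀ k < 8, ∀ l < 8, mm (rt k) (rt l) = rt (k ^^^ l) := by decide +kernel
theorem rt_zero : rt 0 = I8 := by decide +kernel
theorem re_dec : ∀ v < 256, InX 1 v → ∀ k < 8, fr (re 1 v k) (fun M => fr (ix (lm M 1)) fun a => Nat.blt a 81 &&
    (List.range 8).any fun l => Nat.beq M (mm (ot a) (rt l))) = true := by decide +kernel
theorem gen_spec : ∀ p ∈ (List.range 8).map rt ++ ev1, isoB p = true ∧ lm p 1 = 1 ∧ mm p io = mm io p ∧
    (∀ k < 81, fr (mm p (ot k)) (fun M => fr (ix (lm M 1)) fun a => Nat.blt a 81 && Nat.beq M (mm (ot a) p)) = true) ∧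
    ∀ j < 4, ∀ e ∈ [3 ^ j, 2 * 3 ^ j], ∃ j' < 4, ix (lm (mm p (ot e)) 1) ∈ [3 ^ j', 2 * 3 ^ j'] := by
  decide +kernel
theorem p_spec : ∀ l < 8, ∀ t ∈ ev1, fr (mm (rt l) t) (fun p => fr (mm p p) fun q =>
    (!Nat.beq (mm q q) I8 || Nat.beq q I8 || Nat.beq q io) && (!Nat.beq (mm p (mm io p)) io || Nat.beq q I8)) = true := by
  decide +kernel
theorem col_surj : ∀ j : Fin 5, ∃ a < 256, col a = j := by decide +kernel
theorem rt_pm : ∀ l < 8, ∃ σ ∈ [1, swap 0 1 * swap 2 3, swap 0 2 * swap 1 3, swap 0 3 * swap 1 2], Pm (rt l) σ := by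
  decide +kernel
theorem stl_pm : ∀ t ∈ stl 1, ∃ a b c : Fin 5, Pm t (swap a b * swap b c) := by decide +kernel
theorem stl_odd : ∀ t ∈ stl 1, t ∈ ev1 ∨ ∃ a b : Fin 5, a ≠ b ∧ Pm t (swap a b) := by decide +kernel
theorem th_fact : ∀ j < 4, ∀ D ∈ [th j, iv (th j)], D ≠ I8 ∧ (∀ a < 256, blk j (lm D a ^^^ a)) ∧
    (∃ a < 256, fx j = lm D a ^^^ a) ∧ fx j < 256 ∧ fx j ≠ 0 ∧ q0 (fx j) = 1 ∧ q0 (fx j ^^^ lm D (fx j)) = 1 ∧
    (∀ w < 256, blk j w → w = 0 ∨ w = fx j ∨ (w = lm D (fx j) ∧ lm D w ≠ fx j ∧ lm D (lm D w) = fx j) ∨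
      (w = lm D (lm D (fx j)) ∧ lm D (lm D w) ≠ fx j ∧ lm D w = fx j)) ∧
    (∀ v < 256, InX 1 v → lm D v ≠ v ∧ ¬InX 1 (v ^^^ lm D v)) ∧
    ∀ a < 256, ∃ b ∈ [0, fx j, lm D (fx j), fx j ^^^ lm D (fx j)], lm D (a ^^^ b) = a ^^^ b := by
  decide +kernel

variable {k l M N p q : ℕ} {W : ℕ → Prop}

theorem o3_iso (hk : k < 81) : Iso (o3 k) := o3_eq k hk ▸ iso_of (ot_spec k hk).1
theorem o3_mm (hk : k < 81) (hl : l < 81) : mm (o3 k) (o3 l) = o3 (ad k l) := by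
  rw [o3_eq k hk, o3_eq l hl, o3_eq _ (ad_lt _ _)]
  exact Nat.eq_of_beq_eq_true (ot_mul k hk l hl)
theorem o3_zero : o3 0 = I8 := (o3_eq 0 (by norm_num)).trans ot_zero
theorem o3_inj (hk : k < 81) (hl : l < 81) (e : lm (o3 k) 1 = lm (o3 l) 1) : k = l := by
  rw [o3_eq k hk, o3_eq l hl] at e
  rw [← (ot_spec k hk).2.1, e, (ot_spec l hl).2.1]
theorem can (h : Iso M) (hp : p < 2 ^ 64) (hq : q < 2 ^ 64) (e : mm M p = mm M q) : p = q := by
  rw [← I8_mm hp, ← h.iv_mm, mm_assoc, e, ← mm_assoc, h.iv_mm, I8_mm hq]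
theorem one_mm (hp : lm p 1 = 1) (hq : lm q 1 = 1) : lm (mm p q) 1 = 1 := by rw [lm_mm _ _ (by norm_num), hq, hp]
theorem TM.om (h : TM N) : ∃ j < 4, ∃ e ∈ [3 ^ j, 2 * 3 ^ j], e < 81 ∧ N = o3 e := by
  obtain ⟨j, hj, h⟩ := h
  have := Nat.pow_le_pow_right (show 0 < 3 by norm_num) (Nat.le_of_lt_succ hj)
  obtain ⟨-, -, -, -, h1, h2, -⟩ := th_spec j hj
  rcases h with h | h
  exacts [⟨j, hj, 3 ^ j, List.mem_cons_self, by omega, h.trans h1.symm⟩,
    ⟨j, hj, 2 * 3 ^ j, List.mem_cons_of_mem _ List.mem_cons_self, by omega, h.trans h2.symm⟩]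

theorem Nm.mul (h : Nm W M) (k : Nm W N) : Nm W (mm M N) := fun X hX => by
  obtain ⟨Y, hY, e1⟩ := k X hX
  obtain ⟨Z, hZ, e2⟩ := h Y hY
  exact ⟨Z, hZ, by rw [mm_assoc, e1, ← mm_assoc, e2, mm_assoc]⟩
theorem Nm.cj (h : Nm W M) (i : Iso M) (hW : ∀ N, W N → N < 2 ^ 64) (k : W N) : W (cj M N) := by
  obtain ⟨Y, hY, e⟩ := h N k
  rwa [X9.cj, ← mm_assoc, e, mm_assoc, i.mm_iv, mm_I8 (hW Y hY)]
theorem nO1 (hk : k < 81) : Nm OM (o3 k) := by
  rintro _ ⟨l, hl, rfl⟩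
  exact ⟨_, ⟨l, hl, rfl⟩, by rw [o3_mm hk hl, o3_mm hl hk, ad_comm]⟩
theorem gen_o3 (hp : p ∈ (List.range 8).map rt ++ ev1) (hk : k < 81) :
    ix (lm (mm p (ot k)) 1) < 81 ∧ mm p (o3 k) = mm (o3 (ix (lm (mm p (ot k)) 1))) p := by
  have := (gen_spec p hp).2.2.2.1 k hk
  rw [fr_eq, fr_eq, Bool.and_eq_true, Nat.blt_eq, Nat.beq_eq] at this
  exact ⟨this.1, by rw [o3_eq k hk, o3_eq _ this.1]; exact this.2⟩
theorem nO2 (hp : p ∈ (List.range 8).map rt ++ ev1) : Nm OM p := by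
  rintro _ ⟨l, hl, rfl⟩
  exact ⟨_, ⟨_, (gen_o3 hp hl).1, rfl⟩, (gen_o3 hp hl).2⟩
theorem nT1 (hk : k < 81) : Nm TM (o3 k) := fun N h => ⟨N, h, by
  obtain ⟨j, -, e, -, he, rfl⟩ := h.om
  rw [o3_mm hk he, o3_mm he hk, ad_comm]⟩
theorem nT2 (hp : p ∈ (List.range 8).map rt ++ ev1) : Nm TM p := fun N h => by
  obtain ⟨j, hj, e, h1, he, rfl⟩ := h.om
  obtain ⟨i, hi, h2⟩ := (gen_spec p hp).2.2.2.2 j hj e h1
  obtain ⟨-, -, -, -, h3, h4, -⟩ := th_spec i hi
  refine ⟨_, ⟨i, hi, ?_⟩, (gen_o3 hp he).2⟩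
  rcases List.mem_pair.1 h2 with e | e <;> rw [e]
  exacts [.inl h3, .inr h4]
theorem nI (h : Nm OM M) (hk : k < 81) (e : mm M io = mm (mm (o3 k) io) M) : Nm (E · io) M := by
  rintro _ ⟨l, hl, rfl⟩
  obtain ⟨_, ⟨m, hm, rfl⟩, e1⟩ := h _ ⟨l, hl, rfl⟩
  exact ⟨_, ⟨_, ad_lt m k, rfl⟩, by
    rw [← mm_assoc, e1, mm_assoc, e, ← o3_mm hm hk, ← mm_assoc, ← mm_assoc]⟩
theorem nI1 (hk : k < 81) : Nm (E · io) (o3 k) :=
  nI (nO1 hk) (ad_lt k k) (by rw [o3_eq k hk, o3_eq _ (ad_lt _ _)]; exact (ot_spec k hk).2.2.2.2.2.1)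
theorem nI2 (hp : p ∈ (List.range 8).map rt ++ ev1) : Nm (E · io) p :=
  nI (nO2 hp) (k := 0) (by norm_num) (by rw [o3_zero, I8_mm (by decide +kernel), (gen_spec p hp).2.2.1])
theorem rt_mem (hl : l < 8) : re 1 1 l ∈ (List.range 8).map rt ++ ev1 :=
  List.mem_append_left _ (List.mem_map.2 ⟨l, List.mem_range.2 hl, (re_eq l hl).symm⟩)
theorem PM.nm (h : PM p) (h2 : ∀ p ∈ (List.range 8).map rt ++ ev1, Nm W p) : Nm W p := by
  obtain ⟨l, hl, t, ht, rfl⟩ := h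
  exact (h2 _ (rt_mem hl)).mul (h2 _ (List.mem_append_right _ ht))
theorem PM.spec (h : PM p) : lm p 1 = 1 ∧ (mm (mm p p) (mm p p) = I8 → mm p p = I8 ∨ mm p p = io) ∧
    (mm p (mm io p) = io → mm p p = I8) := by
  obtain ⟨l, hl, t, ht, rfl⟩ := h
  refine ⟨one_mm (gen_spec _ (rt_mem hl)).2.1 (gen_spec _ (List.mem_append_right _ ht)).2.1, ?_⟩
  have := p_spec l hl t ht
  rw [re_eq l hl]
  generalize mm (rt l) t = p at this ⊢
  simp only [fr_eq, Bool.and_eq_true, Bool.or_eq_true, Bool.not_eq_true', Nat.beq_eq, ← Bool.not_eq_true] at this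
  exact ⟨fun e => this.1.imp_left (·.resolve_left fun k => k e), fun e => this.2.resolve_left fun k => k e⟩

theorem E.self (hp : p < 2 ^ 64) : E p p := ⟨0, by norm_num, by rw [o3_zero, I8_mm hp]⟩
theorem E.mul (h : E M p) (k : E N q) (n : Nm OM p) : E (mm M N) (mm p q) := by
  obtain ⟨a, ha, rfl⟩ := h
  obtain ⟨b, hb, rfl⟩ := k
  obtain ⟨_, ⟨c, hc, rfl⟩, e⟩ := n _ ⟨b, hb, rfl⟩
  exact ⟨_, ad_lt a c, by rw [mm_assoc, ← mm_assoc p, e, ← o3_mm ha hc, mm_assoc, mm_assoc]⟩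
theorem E.uniq (h : E M p) (k : E M q) (p1 : lm p 1 = 1) (q1 : lm q 1 = 1) (hp : p < 2 ^ 64) (hq : q < 2 ^ 64) :
    p = q := by
  obtain ⟨a, ha, rfl⟩ := h
  obtain ⟨b, hb, e⟩ := k
  obtain rfl : a = b := o3_inj ha hb (by
    have := congrArg (lm · 1) e
    simpa only [lm_mm _ _ (show 1 < 256 by norm_num), p1, q1] using this)
  exact can (o3_iso ha) hp hq e
theorem E.om (h : E M I8) : OM M := by
  obtain ⟨a, ha, rfl⟩ := h
  exact ⟨a, ha, mm_I8 (o3_iso ha).1⟩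
theorem E.re {v : ℕ} (hv : InX 1 v) (hk : k < 8) : ∃ l < 8, E (re 1 v k) (re 1 1 l) := by
  have := re_dec v hv.1 hv k hk
  simp only [fr_eq, Bool.and_eq_true, Nat.blt_eq, List.any_eq_true, List.mem_range, Nat.beq_eq] at this
  obtain ⟨h1, l, hl, e⟩ := this
  exact ⟨l, hl, _, h1, by rw [o3_eq _ h1, re_eq l hl]; exact e⟩
theorem io_can (hk : k < 81) (hl : l < 81) (e : mm (mm (o3 k) io) (o3 l) = mm (o3 l) (mm (o3 k) io)) : l = 0 := by
  have h := (ot_spec l hl).2.2.2.2.1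
  rw [← o3_eq l hl, ← o3_eq _ (ad_lt _ _)] at h
  rw [mm_assoc, h, ← mm_assoc, ← mm_assoc, o3_mm hk (ad_lt _ _), o3_mm hl hk] at e
  have := congrArg (lm · 1) e
  simp only [lm_mm _ _ (show 1 < 256 by norm_num), show lm io 1 = 1 by decide +kernel] at this
  exact ad_can k hk l hl (o3_inj (ad_lt _ _) (ad_lt _ _) this)
theorem Pm.iff {σ : Perm (Fin 5)} (h : Pm M σ) (j : Fin 5) :
    ∀ a < 256, col a = j ↔ col (lm M a) = σ j := fun a ha => by
  rw [h.2 a ha, σ.injective.eq_iff]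

end H9.X9.O3A
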