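import Cfsg.Agent.Lib.X9.Stb

/-!
System `1`: the four blocks, the normal subgroup of order `81`, long root elements, frames.
-/

set_option autoImplicit false
set_option maxRecDepth 100000
set_option maxHeartbeats 400000

namespace H9.X9

open Subgroup
open H39.MS (lm)
open scoped commutatorElement

/-- the element of order three on block `j < 4` -/
def th (j : ℕ) : ℕ := [0x6fafcf01e7ebedff, 0x8040f321dbd7e030, 0x80a420a5ec55e6b4, 0x6840206999ecea78].getD j 0
/-- the blocks -/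
def blk (j a : ℕ) : Prop := a ∈ [[0, 17, 239, 254], [0, 49, 211, 226], [0, 81, 181, 228], [0, 121, 145, 232]].getD j []
/-- the vector of block `j` fixed by `io` -/
def fx (j : ℕ) : ℕ := [239, 226, 228, 232].getD j 0
/-- `M ^ e` for `e < 3` -/
def p3 (M e : ℕ) : ℕ := cond (Nat.beq e 0) I8 (cond (Nat.beq e 1) M (mm M M))
/-- element `k < 81` of the normal subgroup of order `81` -/
def o3 (k : ℕ) : ℕ :=
  mm (p3 (th 0) (k % 3)) (mm (p3 (th 1) (k / 3 % 3)) (mm (p3 (th 2) (k / 9 % 3)) (p3 (th 3) (k / 27 % 3))))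
/-- the involution fixing `1` and inverting all `th j` -/
def io : ℕ := 0x874b2dff09050301
/-- the elements of `stl 1` acting evenly on the blocks -/
def ev1 : List ℕ := [0x8040201008040201, 0x2068a4100e040801, 0x2080401002080401, 0x4020801004020801,
  0x40c268100e080201, 0x6840c210020e0801, 0x68a4201004080e01, 0x80a4c2100e020401, 0xa4206810080e0401,
  0xa4c2801002040e01, 0xc268401008020e01, 0xc280a410040e0201]

instance instDecBlk (j a : ℕ) : Decidable (blk j a) := by unfold blk; infer_instance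

variable {G : Type*} [Group G]

/-- long root elements -/
def Th (z : G) (Q : Subgroup G) (c : G → ℕ) (x : G) : Prop :=
  x ^ 3 = 1 ∧ ∃ j < 4, Act z Q c x (th j) ∨ Act z Q c x (iv (th j))
/-- elements over the normal subgroup of order `81` -/
def O3 (z : G) (Q : Subgroup G) (c : G → ℕ) (x : G) : Prop := ∃ k < 81, Act z Q c x (o3 k)
/-- involutions inverting it -/
def Io (z : G) (Q : Subgroup G) (c : G → ℕ) (t : G) : Prop :=
  t * t = 1 ∧ ∃ k < 81, Act z Q c t (mm (o3 k) io)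

/-- a frame of root elements -/
structure Frm (z : G) (Q : Subgroup G) (c : G → ℕ) (y g : G) (r : Fin 4 → Bool → G) (n : Fin 4 → G) : Prop where
  yy : y * y = 1
  ya : Act z Q c y io
  gz : g * z * g⁻¹ = y
  gy : g * y * g⁻¹ = z
  r3 : ∀ j e, r j e ^ 3 = 1
  ra : ∀ j, Act z Q c (r j true) (th j)
  rb : ∀ j, Act z Q c (r j false) (iv (th j))
  yr : ∀ j e, y * r j e * y⁻¹ = (r j e)⁻¹
  all : ∀ x, Th z Q c x → y * x * y⁻¹ = x⁻¹ → ∃ j e, x = r j e ∨ x = (r j e)⁻¹
  cm : ∀ i j e f, i ≠ j → Commute (r i e) (r j f)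
  zm : ∀ j, z ∈ closure {r j true, r j false}
  four : ∀ j, (r j true * r j false) ^ 4 = 1
  nQ : ∀ j, n j ∈ Q
  nc : ∀ j, c (n j) = fx j
  nm : ∀ j, n j ∈ closure {r j true, r j false}
  ny : ∀ j, n j * y * (n j)⁻¹ = y * z
  ns : ∀ j e, n j * r j e * (n j)⁻¹ = (r j (!e))⁻¹
  Qle : Q ≤ closure (Set.range fun p : Fin 4 × Bool => r p.1 p.2)
  cj : ∀ t, Io z Q c t → ∃ k ∈ closure (Set.range fun p : Fin 4 × Bool => r p.1 p.2), k * y * k⁻¹ = t

/-- twenty-four root elements of order three in three frames -/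
structure Rts (G : Type*) [Group G] where
  /-- the three involutions -/
  t : Fin 3 → G
  /-- the root elements -/
  r : Fin 3 → Fin 4 → Bool → G
  /-- the reflections -/
  n : Fin 3 → Fin 4 → G
  tt : ∀ w, t w * t w = 1
  t1 : ∀ w, t w ≠ 1
  tc : ∀ w w', t w * t w' = t w' * t w
  r3 : ∀ w i e, r w i e ^ 3 = 1
  r1 : ∀ w i e, r w i e ≠ 1
  tm : ∀ w i, t w ∈ closure {r w i true, r w i false}
  tr : ∀ w i e, t w * r w i e = r w i e * t w
  ti : ∀ w w' i e, w ≠ w' → t w * r w' i e * (t w)⁻¹ = (r w' i e)⁻¹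
  cm : ∀ w i i' e e', i ≠ i' → Commute (r w i e) (r w i' e')
  four : ∀ w i, (r w i true * r w i false) ^ 4 = 1
  one : ∀ w w' i j e, w ≠ w' → ∃ f, Commute (r w i e) (r w' j f)
  tri : ∀ w w' w'' i j k e f g, w' ≠ w → w'' ≠ w → Commute (r w i e) (r w' j f) → Commute (r w i e) (r w'' k g) →
    ⁅r w' j f, r w'' k g⁆ ∈ zpowers (r w i e)
  nm : ∀ w i, n w i ∈ closure {r w i true, r w i false}
  ns : ∀ w i e, n w i * r w i e * (n w i)⁻¹ = (r w i (!e))⁻¹
  np : ∀ w w' w'' i j e, w' ≠ w → w'' ≠ w → w' ≠ w'' → ∃ k f,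
    n w i * r w' j e * (n w i)⁻¹ = r w'' k f ∨ n w i * r w' j e * (n w i)⁻¹ = (r w'' k f)⁻¹

/-- the group of a pair of opposite roots -/
def Rts.K (A : Rts G) (w : Fin 3) (i : Fin 4) : Subgroup G := closure {A.r w i true, A.r w i false}

theorem eqns_o3t : True := by
  have := @th.eq_1
  have := @blk.eq_1
  have := @fx.eq_1
  have := @p3.eq_1
  have := @o3.eq_1
  have := @io.eq_1
  have := @ev1.eq_1
  have := @Th.eq_1.{0}
  have := @O3.eq_1.{0}
  have := @Io.eq_1.{0}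
  have := @Rts.K.eq_1.{0}
  trivial

theorem io_eq : io = re 1 1 7 := by decide +kernel
theorem th_spec : ∀ j < 4, isoB (th j) = true ∧ mm (th j) (mm (th j) (th j)) = I8 ∧ iv (th j) = mm (th j) (th j) ∧
    th j ≠ I8 ∧ o3 (3 ^ j) = th j ∧ o3 (2 * 3 ^ j) = iv (th j) ∧ cj io (th j) = iv (th j) ∧ blk j (fx j) ∧
    lm io (fx j) = fx j ∧ q0 (fx j) = 1 ∧ ∀ a < 256, blk j (lm (th j) a ^^^ a) := by decide +kernel
theorem th_word : th 0 = mm io (re 1 255 3) ∧ th 1 = mm io (re 1 48 5) ∧ th 2 = mm io (re 1 180 7) ∧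
    th 3 = mm io (re 1 120 4) ∧ InX 1 255 ∧ InX 1 48 ∧ InX 1 180 ∧ InX 1 120 := by decide +kernel
theorem o3_reg : ∀ v < 256, InX 1 v → ∃ k < 81, lm (o3 k) 1 = v := by decide +kernel
theorem ev1_sub : ∀ t ∈ ev1, t ∈ stl 1 := by decide +kernel

end H9.X9
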