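import Cfsg.Agent.Lib.X9.Bas
import Cfsg.Agent.Lib.WCn.Big
import Cfsg.Agent.Lib.TwoFusion.ZStarIso
import Cfsg.Agent.Lib.Leech.Export
import Cfsg.Agent.Lib.Comp.PConstrained
import Cfsg.Agent.S1675

/-!
The weakly closed case for a large extraspecial subgroup of order `2⁹`.
-/

set_option autoImplicit false
set_option linter.unusedSectionVars false
set_option linter.unusedVariables false
set_option maxHeartbeats 400000

namespace H9.X9

open H95 H4.LX Subgroup H9.WC H75.DW Cfsg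
open H39.MS (lm)

universe u

variable {G : Type u} [Group G] [Finite G] {z s g r x y d : G} {Q : Subgroup G} {c : G → ℕ} {i n M a e v w : ℕ}

namespace Wc

open H30 (F4)
open H73.FD (Pr)
open Module Matrix

theorem no11 (h : L3 Q z) (hc : Nat.card Q = 2 ^ 9) (xz : x * z = z * x) (h11 : x ^ 11 = 1) : x = 1 := by
  classical
  have := Fintype.ofFinite Q
  let c : MulAut Q := Q.normalizerMonoidHom ⟨x, h.norm x xz⟩
  have c11 : c ^ 11 = 1 := by
    rw [← map_pow]; exact (congrArg _ (Subtype.ext h11)).trans (map_one _)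
  have : Fact (Nat.Prime 11) := ⟨by decide⟩
  have m := Equiv.Perm.card_fixedPoints_modEq (f := MulAction.toEndHom (α := Q) c) (p := 11) (n := 1)
    (by rw [pow_one, ← map_pow, c11, map_one])
  have e : Nat.card (Function.fixedPoints (MulAction.toEndHom (α := Q) c)) =
      Nat.card (Q ⊓ centralizer {x} : Subgroup G) := Nat.card_congr
    { toFun := fun y => ⟨y.1, y.1.2, mem_cent_iff.2 (mul_inv_eq_iff_eq_mul.1 (congrArg Subtype.val y.2)).symm⟩
      invFun := fun y => ⟨⟨y.1, y.2.1⟩, Subtype.ext (mul_inv_eq_iff_eq_mul.2 (mem_cent_iff.1 y.2.2).symm)⟩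
      left_inv := fun _ => rfl
      right_inv := fun _ => rfl }
  obtain ⟨k, hk, e2⟩ := (Nat.dvd_prime_pow Nat.prime_two).1
    (hc ▸ card_dvd_of_le (inf_le_left : Q ⊓ centralizer {x} ≤ Q))
  rw [Fintype.card_eq_nat_card, Fintype.card_eq_nat_card, e, hc, e2] at m
  obtain rfl : k = 9 := by
    interval_cases k <;> first | rfl | exact absurd m (by decide)
  have e3 : Q ⊓ centralizer {x} = Q := eq_of_le_of_card_ge inf_le_left (by rw [hc, e2])
  refine (h.cent x fun y hy => mem_cent_iff.1 (e3.ge hy).2).resolve_right fun e4 => h.ne_one ?_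
  rw [← h11, e4, show z ^ 11 = (z * z) ^ 5 * z by rw [← pow_two, ← pow_mul, ← pow_succ], h.sq, one_pow, one_mul]

theorem ex11 {m : ℕ} (hm : 7 ≤ m) : ∃ (g : SU m F4 2) (v : Fin m → F4), g ^ 11 = 1 ∧ g ≠ 1 ∧ v ≠ 0 ∧
    hermForm m F4 2 v v = 0 ∧ g.1.1 *ᵥ v = v := by
  classical
  obtain ⟨k, rfl⟩ : ∃ k, m = k + 7 := ⟨m - 7, by omega⟩
  let S : Finset (Fin (k + 7)) := {2, 3, 4, 5, 6}
  have hS : S.card = 5 := by
    simp only [S]
    repeat rw [Finset.card_insert_of_notMem]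
    · rfl
    all_goals simp [Fin.ext_iff, Nat.mod_eq_of_lt]
  have h0 : (0 : Fin (k + 7)) ∉ S := by simp [S, Fin.ext_iff, Nat.mod_eq_of_lt]
  have h1 : (1 : Fin (k + 7)) ∉ S := by simp [S, Fin.ext_iff, Nat.mod_eq_of_lt]
  have h01 : (0 : Fin (k + 7)) ≠ 1 := by simp
  have hc := H11.U.card_guFixer (F := F4) (q := 2) S
  rw [hS] at hc
  have : Fact (Nat.Prime 11) := ⟨by decide⟩
  obtain ⟨g, hg⟩ := exists_prime_orderOf_dvd_card' (G := H11.U.guFixer F4 2 S) 11 (by rw [hc]; decide)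
  obtain ⟨g', e⟩ : ((g ^ 3 : H11.U.guFixer F4 2 S) : GU (k + 7) F4 2) ∈ (H11.U.suToGU (k + 7) F4 2).range := by
    rw [H11.U.mem_range_suToGU]
    have := H11.U.IsIso.det_mul_cj (q := 2) (A := g.1.1.1) g.1.2
    change (g.1.1 ^ 3 : GL (Fin (k + 7)) F4).1.det = 1
    rw [Units.val_pow_eq_pow_val, det_pow, pow_succ', ← this]
    rfl
  refine ⟨g', Pi.single 0 1 + Pi.single 1 1, H11.U.suToGU_injective ?_, fun e1 => ?_, fun e1 => ?_, ?_, ?_⟩
  · rw [map_pow, e, map_one, ← coe_pow, ← pow_mul, mul_comm, pow_mul, ← hg, pow_orderOf_eq_one, one_pow]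
    rfl
  · rw [e1, map_one] at e
    have := orderOf_dvd_of_pow_eq_one (Subtype.ext e.symm : g ^ 3 = 1)
    rw [hg] at this
    exact absurd this (by decide)
  · simpa using congrFun e1 0
  · simp only [H11.U.form_add_left, H11.U.form_add_right, H11.U.form_single_single, if_true, if_neg h01,
      if_neg h01.symm]
    decide
  · rw [← H11.U.suToGU_val, e, mulVec_add, (g ^ 3).2 0 h0, (g ^ 3).2 1 h1]

theorem le_six (h : L3 Q z) (hc : Nat.card Q = 2 ^ 9) {m : ℕ} (e : G ≃* PSU m F4 2)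
    (h3 : ∀ g, (z * (g * z * g⁻¹)) ^ 2 = 1 ∨ (z * (g * z * g⁻¹)) ^ 3 = 1) : m ≤ 6 := by
  by_contra! hm
  have hn2 : 2 ≤ m := by omega
  obtain ⟨t0, ht0⟩ := QuotientGroup.mk_surjective (e z)
  have h2 : e z * e z = 1 := by rw [← map_mul, h.sq, map_one]
  have ht : (QuotientGroup.mk (t0 ^ 3) : PSU m F4 2) = e z := by
    rw [QuotientGroup.mk_pow, ht0, pow_three, h2, mul_one]
  have tm : t0 ^ 3 ∈ H56.TV m F4 := by
    refine H56.mem_TV_of_three ?_ ?_ fun g => ?_
    · rw [← (Commute.refl t0).mul_pow]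
      refine H56.center_pow_three hn2 ?_
      rw [← QuotientGroup.eq_one_iff, QuotientGroup.mk_mul, ht0, h2]
    · intro c
      rw [c] at ht
      exact h.ne_one (e.injective (ht.symm.trans (map_one e).symm))
    · obtain ⟨k, hk'⟩ := e.surjective (QuotientGroup.mk g)
      have e' : (QuotientGroup.mk (t0 ^ 3 * (g * t0 ^ 3 * g⁻¹)) : PSU m F4 2) = e (z * (k * z * k⁻¹)) := by
        simp only [QuotientGroup.mk_mul, QuotientGroup.mk_inv, ht, map_mul, map_inv, hk']
      rcases h3 k with c | c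
      · left; rw [← QuotientGroup.eq_one_iff, QuotientGroup.mk_pow, e', ← map_pow, c, map_one]
      · right; rw [← QuotientGroup.eq_one_iff, QuotientGroup.mk_pow, e', ← map_pow, c, map_one]
  obtain ⟨g, v, g11, g1, v0, hv, gv⟩ := ex11 hm
  obtain ⟨k, hk⟩ := (H56.TC_TV (by omega)).trans _ (H56.tv1_mem v0 hv) _ tm
  have c : Commute (k * g * k⁻¹) (t0 ^ 3) := hk ▸ H73.FD.cj_commute (H56.commute_tv1_of_fix gv)
  have k11 : (k * g * k⁻¹) ^ 11 = 1 := by rw [conj_pow, g11]; simp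
  have := no11 h hc (x := e.symm (QuotientGroup.mk (k * g * k⁻¹))) (e.injective (by
    rw [map_mul, map_mul, e.apply_symm_apply, ← ht, ← QuotientGroup.mk_mul, c.eq, QuotientGroup.mk_mul]))
    (by rw [← map_pow, ← QuotientGroup.mk_pow, k11]; exact map_one _)
  rw [EmbeddingLike.map_eq_one_iff, QuotientGroup.eq_one_iff] at this
  have k3 := H56.center_pow_three hn2 this
  refine g1 (conj_eq_one_iff.1 (?_ : k * g * k⁻¹ = 1))
  generalize k * g * k⁻¹ = a at k3 k11
  calc a = (a ^ 3) ^ 4 * (a ^ 11)⁻¹ := by group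
    _ = 1 := by rw [k3, k11]; simp

theorem six_le {m : ℕ} (hm : 4 ≤ m) (h1 : 2 ^ 11 ∣ Nat.card (PSU m F4 2)) : 6 ≤ m := by
  have h := H11.U.card_GU (F := F4) (q := 2) (n := m)
  rw [H11.U.card_GU_eq_mul_card_SU (by omega), H11.U.card_SU_eq_mul_card_PSU (by omega), ← mul_assoc] at h
  by_contra! k
  rcases (show m = 4 ∨ m = 5 by omega) with rfl | rfl <;>
  · have := h ▸ h1.mul_left _
    revert this
    decide

theorem dvd11 {D : Set G} {Qf : G → Subgroup G} {V : Type u} [AddCommGroup V] [Module (ZMod 2) V] {K : Type*}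
    [Group K] (F : H9.WN.Fn D Qf 4 V K) {t : G} (p : Pr D z t) : 2 ^ 11 ∣ Nat.card G := by
  obtain ⟨C⟩ := F.cx z p.l
  obtain ⟨C'⟩ := F.cx t p.r
  have h := F.l3 z p.l
  have a1 := F.card_Y p C
  have a2 := (F.wd p C).fr_I C.form
  have W := F.wd p.symm C'
  have a3 := W.fr_X C'.form
  have a4 := C'.form.fr_Fx (C'.μ z)
  have a5 := C'.form.Mv_le W.ττ
  rw [F.card_X p.symm C'] at a1
  have a6 : 2 ^ 2 ∣ Nat.card (C.imK (XX Qf t z)) := by
    refine Nat.dvd_of_mul_dvd_mul_right (Nat.two_pow_pos (finrank (ZMod 2) (C.img (Qf z ⊓ Qf t)))) ?_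
    rw [← a1, ← pow_add]
    exact pow_dvd_pow 2 (by omega)
  have a7 := C.card_imK (A := centralizer {z}) fun a ha => mem_cent_iff.1 ha
  rw [inf_eq_right.2 h.le_centralizer, C.card_Q h] at a7
  have a8 : C.imK (XX Qf t z) ≤ C.imK (centralizer {z}) := fun k hk => by
    obtain ⟨b, -, h1, h2⟩ := C.mem_imK.1 hk
    exact C.mem_imK.2 ⟨b, mem_cent_iff.2 h1, h1, h2⟩
  refine Dvd.dvd.trans ?_ (card_subgroup_dvd_card (centralizer {z}))
  rw [a7, show 2 ^ 11 = 2 ^ 2 * 2 ^ (2 * 4 + 1) from rfl]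
  exact Nat.mul_dvd_mul (a6.trans (card_dvd_of_le a8)) dvd_rfl

end Wc

open Wc H9.WN in
theorem wc4 [IsSimpleGroup G] (T : Hy Q z 4) (I : Irr Q z) (wc : ∀ g, g * z * g⁻¹ ∈ Q → g * z * g⁻¹ = z) :
    (∃ (F : Type) (_ : Field F) (_ : Fintype F), Fintype.card F = 4 ∧ Nonempty (G ≃* PSU 6 F 2)) ∨
      Spor.IsoCo2 G := by
  have h := T.h
  have hz : orderOf z = 2 := orderOf_eq_prime (by rw [pow_two, h.sq]) h.ne_one
  have hZ : center G = ⊥ := (inferInstance : (center G).Normal).eq_bot_or_eq_top.resolve_right (hy_nab T)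
  have ev : ¬ Odd (Nat.card G) := fun h1 =>
    (Nat.not_even_iff_odd.2 h1) (even_iff_two_dvd.2 (hz ▸ orderOf_dvd_natCard z))
  have hex : ∃ g, g * z * g⁻¹ ≠ z ∧ g * z * g⁻¹ * z = z * (g * z * g⁻¹) := by
    by_contra! k
    obtain ⟨N, hN, h1, h2⟩ := H41.Isolated.zstar_exists (z := z) ⟨hz, fun y hy => by
      by_contra e
      exact k y e hy.symm⟩
    rcases hN.eq_bot_or_eq_top with rfl | rfl
    · have : z ∈ center G := mem_center_iff.2 fun g =>
        (mul_inv_eq_iff_eq_mul.1 (mul_inv_eq_one.1 (mem_bot.1 (h2 g)))).symm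
      exact h.ne_one (mem_bot.1 (hZ ▸ this))
    · exact ev (card_top (G := G) ▸ h1)
  have e : closure {s | IsConj z s} = ⊤ := by
    refine (Normal.eq_bot_or_eq_top (H := normalClosure {z}) inferInstance).elim (fun e => ?_) fun e => ?_
    · exact absurd (mem_bot.1 (e ▸ subset_normalClosure (Set.mem_singleton z))) h.ne_one
    · rw [← e, normalClosure]
      congr 1
      ext
      simp [Group.mem_conjugatesOfSet_iff]
  have f := (MulEquiv.subgroupCongr e).trans topEquiv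
  have e2 := hy_pcore T
  have hμ := QuotientGroup.mk'_surjective (pCore 2 (centralizer ({z} : Set G)))
  have hk : ∀ x : centralizer ({z} : Set G), QuotientGroup.mk' (pCore 2 (centralizer ({z} : Set G))) x = 1 ↔
      (x : G) ∈ Q := fun x => by
    rw [QuotientGroup.mk'_apply, QuotientGroup.eq_one_iff, e2, mem_subgroupOf]
  obtain ⟨V, _, _, F⟩ := exists_fn h wc _ hμ hk T.hc
  have hK := noE h T.o2 _ hμ hk
  have h3 := T.h3
  by_cases c : ∃ a b, PM {s | IsConj z s} (Qof Q z) a b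
  · obtain ⟨a, b, m⟩ := c
    obtain ⟨C⟩ := F.cx a m.p.l
    obtain ⟨φ⟩ := (F.tt hK m C).sp6
    refine Or.inr (Cfsg.Agent.S1675.result ?_ hZ z hz
      (H23.isPConstrained_of_centralizer_le (H23.fStar_eq_pCore_iff.1 ((hy_fstar T).trans e2.symm)))
      (e2 ▸ hy_extra T) (e2 ▸ hy_card T) φ)
    exact ((inferInstance : (oddCore G).Normal).eq_bot_or_eq_top).resolve_right fun k =>
      ev (card_top (G := G) ▸ k ▸ H1.odd_card_oddCore)
  have AU : ∀ a b, H73.FD.Pr {s | IsConj z s} a b → b * a ∉ {s | IsConj z s} →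
      U {s | IsConj z s} (Qof Q z) a b :=
    fun a b p e => ((F.u_or_m h3 p (F.nl_of p e) (F.nl_of p.symm (p.c.eq ▸ e))).resolve_right fun m =>
      c ⟨a, b, p, e, fun _ => F.m_I m h3⟩).1
  have N := F.nf (fun _ _ => F.all_u h3 AU) hK (ex_pr hex)
  obtain ⟨m, hm, ⟨φ⟩⟩ := psu N (IsConj.refl z) f.isSimpleGroup
  obtain ⟨t, p⟩ := N.ex z (IsConj.refl z)
  obtain rfl : m = 6 := le_antisymm (le_six h T.hc (f.symm.trans φ) fun g => by
      by_cases c : Commute z (g * z * g⁻¹)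
      · exact Or.inl (by rw [c.mul_pow, conj_pow, pow_two, h.sq]; simp)
      · exact Or.inr (N.geo.three (IsConj.refl z) (isConj_iff.2 ⟨g, rfl⟩) c))
    (six_le hm (Nat.card_congr (f.symm.trans φ).toEquiv ▸ dvd11 F p))
  exact Or.inl ⟨H30.F4, inferInstance, inferInstance, rfl, ⟨f.symm.trans φ⟩⟩

end H9.X9
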